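import Cfsg.Agent.H10.Bsgs
import Cfsg.Agent.H35.T1680.PAll

/-!
# Stabiliser-chain data for Suz on 1782 points (helper10; generated)
-/

set_option autoImplicit false
set_option linter.all false

namespace Cfsg.Agent.H10.SuzT

open Cfsg.Agent.H35 Cfsg.Spor

noncomputable def sl_lab_c0 : ℕ → ℕ := (nd 64 (nd 32 (nd 16 (nd 8 (nd 4 (nd 2 (nd 1 (lf (nat_lit 0x0)) (lf (nat_lit 0x0))) (nd 3 (lf (nat_lit 0x0)) (lf (nat_lit 0x0)))) (nd 6 (nd 5 (lf (nat_lit 0x0)) (lf (nat_lit 0x0))) (nd 7 (lf (nat_lit 0x0)) (lf (nat_lit 0x0))))) (nd 12 (nd 10 (nd 9 (lf (nat_lit 0x0)) (lf (nat_lit 0x0))) (nd 11 (lf (nat_lit 0x0)) (lf (nat_lit 0x0)))) (nd 14 (nd 13 (lf (nat_lit 0x0)) (lf (nat_lit 0x0))) (nd 15 (lf (nat_lit 0x10000000000000000)) (lf (nat_lit 0x0)))))) (nd 24 (nd 20 (nd 18 (nd 17 (lf (nat_lit 0x0)) (lf (nat_lit 0x0))) (nd 19 (lf (nat_lit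 0x0)) (lf (nat_lit 0x0)))) (nd 22 (nd 21 (lf (nat_lit 0x100000000)) (lf (nat_lit 0x30007))) (nd 23 (lf (nat_lit 0x0)) (lf (nat_lit 0x0))))) (nd 28 (nd 26 (nd 25 (lf (nat_lit 0x0)) (lf (nat_lit 0x0))) (nd 27 (lf (nat_lit 0x0)) (lf (nat_lit 0x0)))) (nd 30 (nd 29 (lf (nat_lit 0x0)) (lf (nat_lit 0x0))) (nd 31 (lf (nat_lit 0x0)) (lf (nat_lit 0x3000300000000))))))) (nd 48 (nd 40 (nd 36 (nd 34 (nd 33 (lf (nat_lit 0x30006)) (lf (nat_lit 0x0))) (nd 35 (lf (nat_lit 0x0)) (lf (nat_lit 0x200000000)))) (nd 38 (nd 37 (lf (nat_lit 0x20006)) (lf (nat_lit 0x1000200000000))) (nd 39 (lf (nat_lit 0x2000200000000)) (lf (nat_lit 0x10006))))) (nd 44 (nd 42 (nd 41 (lf (nat_lit 0x7000200000000)) (lf (nat_lit 0x30005))) (nd 43 (lf (nat_lit 0x4000200000000)) (lf (nat_lit 0x0)))) (nd 46 (nd 45 (lf (nat_lit 0x0)) (lf (nat_lit 0x0))) (nd 47 (lf (nat_lit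 0x7)) (lf (nat_lit 0x0)))))) (nd 56 (nd 52 (nd 50 (nd 49 (lf (nat_lit 0x0)) (lf (nat_lit 0x0))) (nd 51 (lf (nat_lit 0x1000300000000)) (lf (nat_lit 0x0)))) (nd 54 (nd 53 (lf (nat_lit 0x0)) (lf (nat_lit 0x7000300000000))) (nd 55 (lf (nat_lit 0x3000400000000)) (lf (nat_lit 0x5))))) (nd 60 (nd 58 (nd 57 (lf (nat_lit 0x0)) (lf (nat_lit 0x0))) (nd 59 (lf (nat_lit 0x2000300000000)) (lf (nat_lit 0x7)))) (nd 62 (nd 61 (lf (nat_lit 0x4000300000000)) (lf (nat_lit 0x0))) (nd 63 (lf (nat_lit 0x2000300000000)) (lf (nat_lit 0x20007)))))))) (nd 96 (nd 80 (nd 72 (nd 68 (nd 66 (nd 65 (lf (nat_lit 0x3000200000000)) (lf (nat_lit 0x40007))) (nd 67 (lf (nat_lit 0x2000300000000)) (lf (nat_lit 0x10004)))) (nd 70 (nd 69 (lf (nat_lit 0x30004)) (lf (nat_lit 0x6000300000000))) (nd 71 (lf (nat_lit 0x4000300000000)) (lf (nat_lit 0x30008))))) (nd 76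 (nd 74 (nd 73 (lf (nat_lit 0x0)) (lf (nat_lit 0x0))) (nd 75 (lf (nat_lit 0x0)) (lf (nat_lit 0x10006)))) (nd 78 (nd 77 (lf (nat_lit 0x0)) (lf (nat_lit 0x4000600000000))) (nd 79 (lf (nat_lit 0x40008)) (lf (nat_lit 0x0)))))) (nd 88 (nd 84 (nd 82 (nd 81 (lf (nat_lit 0x10008)) (lf (nat_lit 0x0))) (nd 83 (lf (nat_lit 0x0)) (lf (nat_lit 0x0)))) (nd 86 (nd 85 (lf (nat_lit 0x0)) (lf (nat_lit 0x2000400000000))) (nd 87 (lf (nat_lit 0x0)) (lf (nat_lit 0x0))))) (nd 92 (nd 90 (nd 89 (lf (nat_lit 0x2000400000000)) (lf (nat_lit 0x6))) (nd 91 (lf (nat_lit 0x40006)) (lf (nat_lit 0x0)))) (nd 94 (nd 93 (lf (nat_lit 0x20008)) (lf (nat_lit 0x0))) (nd 95 (lf (nat_lit 0x40008)) (lf (nat_lit 0x6000200000000))))))) (nd 112 (nd 104 (nd 100 (nd 98 (nd 97 (lf (nat_lit 0x0)) (lf (nat_lit 0x4000400000000))) (nd 99 (lf (nat_lit 0x30009)) (lf (nat_lit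 0x0)))) (nd 102 (nd 101 (lf (nat_lit 0x0)) (lf (nat_lit 0x0))) (nd 103 (lf (nat_lit 0x20007)) (lf (nat_lit 0x5000400000000))))) (nd 108 (nd 106 (nd 105 (lf (nat_lit 0x40008)) (lf (nat_lit 0x3000300000000))) (nd 107 (lf (nat_lit 0x20008)) (lf (nat_lit 0x10005)))) (nd 110 (nd 109 (lf (nat_lit 0x40005)) (lf (nat_lit 0x20003))) (nd 111 (lf (nat_lit 0x2000400000000)) (lf (nat_lit 0x30007)))))) (nd 120 (nd 116 (nd 114 (nd 113 (lf (nat_lit 0x0)) (lf (nat_lit 0x4000600000000))) (nd 115 (lf (nat_lit 0x40009)) (lf (nat_lit 0x0)))) (nd 118 (nd 117 (lf (nat_lit 0x0)) (lf (nat_lit 0x0))) (nd 119 (lf (nat_lit 0x0)) (lf (nat_lit 0x7000600000000))))) (nd 124 (nd 122 (nd 121 (lf (nat_lit 0x40007)) (lf (nat_lit 0x0))) (nd 123 (lf (nat_lit 0x20005)) (lf (nat_lit 0x5000600000000)))) (nd 126 (nd 125 (lf (nat_lit 0x30009)) (lf (nat_lit 0x0)))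 (nd 127 (lf (nat_lit 0x40009)) (lf (nat_lit 0x0)))))))))
noncomputable def sl_lab_c1 : ℕ → ℕ := (nd 192 (nd 160 (nd 144 (nd 136 (nd 132 (nd 130 (nd 129 (lf (nat_lit 0x0)) (lf (nat_lit 0x0))) (nd 131 (lf (nat_lit 0x0)) (lf (nat_lit 0x4000400000000)))) (nd 134 (nd 133 (lf (nat_lit 0x0)) (lf (nat_lit 0x7000300000000))) (nd 135 (lf (nat_lit 0x0)) (lf (nat_lit 0x30007))))) (nd 140 (nd 138 (nd 137 (lf (nat_lit 0x5000200000000)) (lf (nat_lit 0x40007))) (nd 139 (lf (nat_lit 0x10007)) (lf (nat_lit 0x2000400000000)))) (nd 142 (nd 141 (lf (nat_lit 0x40009)) (lf (nat_lit 0x30006))) (nd 143 (lf (nat_lit 0x0)) (lf (nat_lit 0x0)))))) (nd 152 (nd 148 (nd 146 (nd 145 (lf (nat_lit 0x2000300000000)) (lf (nat_lit 0x20008))) (nd 147 (lf (nat_lit 0x0)) (lf (nat_lit 0x0)))) (nd 150 (nd 149 (lf (nat_lit 0x10008)) (lf (nat_lit 0x0))) (nd 151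 (lf (nat_lit 0x3000500000000)) (lf (nat_lit 0x4000a))))) (nd 156 (nd 154 (nd 153 (lf (nat_lit 0x0)) (lf (nat_lit 0x30008))) (nd 155 (lf (nat_lit 0x0)) (lf (nat_lit 0x0)))) (nd 158 (nd 157 (lf (nat_lit 0x0)) (lf (nat_lit 0x5000400000000))) (nd 159 (lf (nat_lit 0x40008)) (lf (nat_lit 0x10008))))))) (nd 176 (nd 168 (nd 164 (nd 162 (nd 161 (lf (nat_lit 0x7000400000000)) (lf (nat_lit 0x30009))) (nd 163 (lf (nat_lit 0x5000300000000)) (lf (nat_lit 0x40009)))) (nd 166 (nd 165 (lf (nat_lit 0x40006)) (lf (nat_lit 0x10009))) (nd 167 (lf (nat_lit 0x9)) (lf (nat_lit 0x20004))))) (nd 172 (nd 170 (nd 169 (lf (nat_lit 0x40004)) (lf (nat_lit 0x30002))) (nd 171 (lf (nat_lit 0x6000600000000)) (lf (nat_lit 0x40008)))) (nd 174 (nd 173 (lf (nat_lit 0x0)) (lf (nat_lit 0x30006))) (nd 175 (lf (nat_lit 0x6000600000000)) (lf (nat_lit 0x3000a))))))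 (nd 184 (nd 180 (nd 178 (nd 177 (lf (nat_lit 0x0)) (lf (nat_lit 0x0))) (nd 179 (lf (nat_lit 0x0)) (lf (nat_lit 0x0)))) (nd 182 (nd 181 (lf (nat_lit 0x0)) (lf (nat_lit 0x4000400000000))) (nd 183 (lf (nat_lit 0x7000600000000)) (lf (nat_lit 0x30008))))) (nd 188 (nd 186 (nd 185 (lf (nat_lit 0x0)) (lf (nat_lit 0x40006))) (nd 187 (lf (nat_lit 0x20006)) (lf (nat_lit 0x30004)))) (nd 190 (nd 189 (lf (nat_lit 0x0)) (lf (nat_lit 0x4000400000000))) (nd 191 (lf (nat_lit 0x0)) (lf (nat_lit 0x2000a)))))))) (nd 224 (nd 208 (nd 200 (nd 196 (nd 194 (nd 193 (lf (nat_lit 0x0)) (lf (nat_lit 0x3000a))) (nd 195 (lf (nat_lit 0x0)) (lf (nat_lit 0x0)))) (nd 198 (nd 197 (lf (nat_lit 0x0)) (lf (nat_lit 0x0))) (nd 199 (lf (nat_lit 0x0)) (lf (nat_lit 0x0))))) (nd 204 (nd 202 (nd 201 (lf (nat_lit 0x0)) (lf (nat_lit 0x0))) (nd 203 (lf (nat_lit 0x0))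 (lf (nat_lit 0x4000500000000)))) (nd 206 (nd 205 (lf (nat_lit 0x10013)) (lf (nat_lit 0x0))) (nd 207 (lf (nat_lit 0x2000500000000)) (lf (nat_lit 0x5000300000000)))))) (nd 216 (nd 212 (nd 210 (nd 209 (lf (nat_lit 0x2000300000000)) (lf (nat_lit 0x40008))) (nd 211 (lf (nat_lit 0x30008)) (lf (nat_lit 0x5000300000000)))) (nd 214 (nd 213 (lf (nat_lit 0x30008)) (lf (nat_lit 0x40008))) (nd 215 (lf (nat_lit 0x8)) (lf (nat_lit 0x8))))) (nd 220 (nd 218 (nd 217 (lf (nat_lit 0x2000400000000)) (lf (nat_lit 0x3000a))) (nd 219 (lf (nat_lit 0x40007)) (lf (nat_lit 0x30005)))) (nd 222 (nd 221 (lf (nat_lit 0x7000400000000)) (lf (nat_lit 0x0))) (nd 223 (lf (nat_lit 0x9)) (lf (nat_lit 0x0))))))) (nd 240 (nd 232 (nd 228 (nd 226 (nd 225 (lf (nat_lit 0x7000500000000)) (lf (nat_lit 0x40009))) (nd 227 (lf (nat_lit 0x0)) (lf (nat_lit 0x20008))))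 (nd 230 (nd 229 (lf (nat_lit 0x0)) (lf (nat_lit 0x3000600000000))) (nd 231 (lf (nat_lit 0x40009)) (lf (nat_lit 0x0))))) (nd 236 (nd 234 (nd 233 (lf (nat_lit 0x7)) (lf (nat_lit 0x0))) (nd 235 (lf (nat_lit 0x0)) (lf (nat_lit 0x3000500000000)))) (nd 238 (nd 237 (lf (nat_lit 0x3000b)) (lf (nat_lit 0x0))) (nd 239 (lf (nat_lit 0x40009)) (lf (nat_lit 0x0)))))) (nd 248 (nd 244 (nd 242 (nd 241 (lf (nat_lit 0x0)) (lf (nat_lit 0x30007))) (nd 243 (lf (nat_lit 0x5000300000000)) (lf (nat_lit 0x5000400000000)))) (nd 246 (nd 245 (lf (nat_lit 0x30009)) (lf (nat_lit 0x40009))) (nd 247 (lf (nat_lit 0x10007)) (lf (nat_lit 0x4000500000000))))) (nd 252 (nd 250 (nd 249 (lf (nat_lit 0x2000a)) (lf (nat_lit 0x5000400000000))) (nd 251 (lf (nat_lit 0x3000a)) (lf (nat_lit 0x30007)))) (nd 254 (nd 253 (lf (nat_lit 0x4000a)) (lf (nat_lit 0x4000a)))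 (nd 255 (lf (nat_lit 0x40005)) (lf (nat_lit 0x8)))))))))
noncomputable def sl_lab_c2 : ℕ → ℕ := (nd 320 (nd 288 (nd 272 (nd 264 (nd 260 (nd 258 (nd 257 (lf (nat_lit 0x10006)) (lf (nat_lit 0x20005))) (nd 259 (lf (nat_lit 0x30003)) (lf (nat_lit 0x40003)))) (nd 262 (nd 261 (lf (nat_lit 0x1)) (lf (nat_lit 0x4000600000000))) (nd 263 (lf (nat_lit 0x30009)) (lf (nat_lit 0x0))))) (nd 268 (nd 266 (nd 265 (lf (nat_lit 0x40007)) (lf (nat_lit 0x20006))) (nd 267 (lf (nat_lit 0x30006)) (lf (nat_lit 0x0)))) (nd 270 (nd 269 (lf (nat_lit 0x4000300000000)) (lf (nat_lit 0x5000300000000))) (nd 271 (lf (nat_lit 0x2000b)) (lf (nat_lit 0x0)))))) (nd 280 (nd 276 (nd 274 (nd 273 (lf (nat_lit 0x0)) (lf (nat_lit 0x0))) (nd 275 (lf (nat_lit 0x0)) (lf (nat_lit 0x0)))) (nd 278 (nd 277 (lf (nat_lit 0x0)) (lf (nat_lit 0x0))) (nd 279 (lf (nat_lit 0x0))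 (lf (nat_lit 0x0))))) (nd 284 (nd 282 (nd 281 (lf (nat_lit 0x4000400000000)) (lf (nat_lit 0x10012))) (nd 283 (lf (nat_lit 0x0)) (lf (nat_lit 0x3000600000000)))) (nd 286 (nd 285 (lf (nat_lit 0x0)) (lf (nat_lit 0x20009))) (nd 287 (lf (nat_lit 0x0)) (lf (nat_lit 0x30007))))))) (nd 304 (nd 296 (nd 292 (nd 290 (nd 289 (lf (nat_lit 0x40007)) (lf (nat_lit 0x40005))) (nd 291 (lf (nat_lit 0x0)) (lf (nat_lit 0x10007)))) (nd 294 (nd 293 (lf (nat_lit 0x30005)) (lf (nat_lit 0x20003))) (nd 295 (lf (nat_lit 0x0)) (lf (nat_lit 0x4000500000000))))) (nd 300 (nd 298 (nd 297 (lf (nat_lit 0x2000400000000)) (lf (nat_lit 0x40012))) (nd 299 (lf (nat_lit 0x0)) (lf (nat_lit 0x0)))) (nd 302 (nd 301 (lf (nat_lit 0x3000b)) (lf (nat_lit 0x0))) (nd 303 (lf (nat_lit 0x1000b)) (lf (nat_lit 0x0)))))) (nd 312 (nd 308 (nd 306 (nd 305 (lf (nat_lit 0x0))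 (lf (nat_lit 0x0))) (nd 307 (lf (nat_lit 0x2000b)) (lf (nat_lit 0x0)))) (nd 310 (nd 309 (lf (nat_lit 0x0)) (lf (nat_lit 0x0))) (nd 311 (lf (nat_lit 0x0)) (lf (nat_lit 0x0))))) (nd 316 (nd 314 (nd 313 (lf (nat_lit 0x0)) (lf (nat_lit 0x0))) (nd 315 (lf (nat_lit 0x0)) (lf (nat_lit 0x0)))) (nd 318 (nd 317 (lf (nat_lit 0x0)) (lf (nat_lit 0x0))) (nd 319 (lf (nat_lit 0x0)) (lf (nat_lit 0x6000500000000)))))))) (nd 352 (nd 336 (nd 328 (nd 324 (nd 322 (nd 321 (lf (nat_lit 0x30012)) (lf (nat_lit 0x0))) (nd 323 (lf (nat_lit 0x20012)) (lf (nat_lit 0x0)))) (nd 326 (nd 325 (lf (nat_lit 0x0)) (lf (nat_lit 0x5000500000000))) (nd 327 (lf (nat_lit 0x5000500000000)) (lf (nat_lit 0x5000500000000))))) (nd 332 (nd 330 (nd 329 (lf (nat_lit 0x2000400000000)) (lf (nat_lit 0x30009))) (nd 331 (lf (nat_lit 0x40009)) (lf (nat_lit 0x0)))) (nd 334 (nd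 333 (lf (nat_lit 0x20009)) (lf (nat_lit 0x30009))) (nd 335 (lf (nat_lit 0x40009)) (lf (nat_lit 0x40009)))))) (nd 344 (nd 340 (nd 338 (nd 337 (lf (nat_lit 0x7000500000000)) (lf (nat_lit 0x0))) (nd 339 (lf (nat_lit 0x2000b)) (lf (nat_lit 0x30008)))) (nd 342 (nd 341 (lf (nat_lit 0x40006)) (lf (nat_lit 0x7000500000000))) (nd 343 (lf (nat_lit 0x20011)) (lf (nat_lit 0x5000500000000))))) (nd 348 (nd 346 (nd 345 (lf (nat_lit 0x2000600000000)) (lf (nat_lit 0x4000a))) (nd 347 (lf (nat_lit 0x0)) (lf (nat_lit 0x0)))) (nd 350 (nd 349 (lf (nat_lit 0x7000500000000)) (lf (nat_lit 0x3000a))) (nd 351 (lf (nat_lit 0x0)) (lf (nat_lit 0x40009))))))) (nd 368 (nd 360 (nd 356 (nd 354 (nd 353 (lf (nat_lit 0x0)) (lf (nat_lit 0x3000600000000))) (nd 355 (lf (nat_lit 0x3000a)) (lf (nat_lit 0x0)))) (nd 358 (nd 357 (lf (nat_lit 0x40008)) (lf (nat_lit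 0x0))) (nd 359 (lf (nat_lit 0x0)) (lf (nat_lit 0x4000500000000))))) (nd 364 (nd 362 (nd 361 (lf (nat_lit 0x6000300000000)) (lf (nat_lit 0x2000c))) (nd 363 (lf (nat_lit 0x0)) (lf (nat_lit 0x3000a)))) (nd 366 (nd 365 (lf (nat_lit 0x0)) (lf (nat_lit 0x0))) (nd 367 (lf (nat_lit 0x40008)) (lf (nat_lit 0x5000400000000)))))) (nd 376 (nd 372 (nd 370 (nd 369 (lf (nat_lit 0x4000400000000)) (lf (nat_lit 0x0))) (nd 371 (lf (nat_lit 0x2000a)) (lf (nat_lit 0x3000a)))) (nd 374 (nd 373 (lf (nat_lit 0x40008)) (lf (nat_lit 0x4000500000000))) (nd 375 (lf (nat_lit 0x40010)) (lf (nat_lit 0x5000500000000))))) (nd 380 (nd 378 (nd 377 (lf (nat_lit 0x1000b)) (lf (nat_lit 0x6000600000000))) (nd 379 (lf (nat_lit 0x20008)) (lf (nat_lit 0x3000b)))) (nd 382 (nd 381 (lf (nat_lit 0x2000b)) (lf (nat_lit 0x3000b))) (nd 383 (lf (nat_lit 0x30006)) (lf (nat_lit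 0x40009)))))))))
noncomputable def sl_lab_c3 : ℕ → ℕ := (nd 448 (nd 416 (nd 400 (nd 392 (nd 388 (nd 386 (nd 385 (lf (nat_lit 0x40007)) (lf (nat_lit 0x40006))) (nd 387 (lf (nat_lit 0x40004)) (lf (nat_lit 0x30004)))) (nd 390 (nd 389 (lf (nat_lit 0x10002)) (lf (nat_lit 0x3000600000000))) (nd 391 (lf (nat_lit 0x6000400000000)) (lf (nat_lit 0x2000a))))) (nd 396 (nd 394 (nd 393 (lf (nat_lit 0x0)) (lf (nat_lit 0x30008))) (nd 395 (lf (nat_lit 0x40007)) (lf (nat_lit 0x40007)))) (nd 398 (nd 397 (lf (nat_lit 0x0)) (lf (nat_lit 0x400000000))) (nd 399 (lf (nat_lit 0x5000500000000)) (lf (nat_lit 0x11)))))) (nd 408 (nd 404 (nd 402 (nd 401 (lf (nat_lit 0x0)) (lf (nat_lit 0x5000400000000))) (nd 403 (lf (nat_lit 0x2000400000000)) (lf (nat_lit 0x3000c)))) (nd 406 (nd 405 (lf (nat_lit 0x0)) (lf (nat_lit 0x1000c))) (nd 407 (lf (nat_lit 0x0))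 (lf (nat_lit 0x0))))) (nd 412 (nd 410 (nd 409 (lf (nat_lit 0x0)) (lf (nat_lit 0x0))) (nd 411 (lf (nat_lit 0x0)) (lf (nat_lit 0x0)))) (nd 414 (nd 413 (lf (nat_lit 0x0)) (lf (nat_lit 0x0))) (nd 415 (lf (nat_lit 0x0)) (lf (nat_lit 0x0))))))) (nd 432 (nd 424 (nd 420 (nd 418 (nd 417 (lf (nat_lit 0x0)) (lf (nat_lit 0x7000500000000))) (nd 419 (lf (nat_lit 0x10011)) (lf (nat_lit 0x0)))) (nd 422 (nd 421 (lf (nat_lit 0x0)) (lf (nat_lit 0x0))) (nd 423 (lf (nat_lit 0x6000600000000)) (lf (nat_lit 0x0))))) (nd 428 (nd 426 (nd 425 (lf (nat_lit 0x40010)) (lf (nat_lit 0x3000600000000))) (nd 427 (lf (nat_lit 0x0)) (lf (nat_lit 0x3000a)))) (nd 430 (nd 429 (lf (nat_lit 0x0)) (lf (nat_lit 0x1000a))) (nd 431 (lf (nat_lit 0x0)) (lf (nat_lit 0x30008)))))) (nd 440 (nd 436 (nd 434 (nd 433 (lf (nat_lit 0x20008)) (lf (nat_lit 0x0))) (nd 435 (lf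 (nat_lit 0x40008)) (lf (nat_lit 0x40006)))) (nd 438 (nd 437 (lf (nat_lit 0x0)) (lf (nat_lit 0x10004))) (nd 439 (lf (nat_lit 0x0)) (lf (nat_lit 0x0))))) (nd 444 (nd 442 (nd 441 (lf (nat_lit 0x3000400000000)) (lf (nat_lit 0x7000400000000))) (nd 443 (lf (nat_lit 0x40011)) (lf (nat_lit 0x0)))) (nd 446 (nd 445 (lf (nat_lit 0x3000400000000)) (lf (nat_lit 0x6000300000000))) (nd 447 (lf (nat_lit 0x30013)) (lf (nat_lit 0x0)))))))) (nd 480 (nd 464 (nd 456 (nd 452 (nd 450 (nd 449 (lf (nat_lit 0x20011)) (lf (nat_lit 0x0))) (nd 451 (lf (nat_lit 0x0)) (lf (nat_lit 0x0)))) (nd 454 (nd 453 (lf (nat_lit 0x4000c)) (lf (nat_lit 0x0))) (nd 455 (lf (nat_lit 0x3000c)) (lf (nat_lit 0x0))))) (nd 460 (nd 458 (nd 457 (lf (nat_lit 0x0)) (lf (nat_lit 0x0))) (nd 459 (lf (nat_lit 0xc)) (lf (nat_lit 0x1000c)))) (nd 462 (nd 461 (lf (nat_lit 0x40010))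 (lf (nat_lit 0x0))) (nd 463 (lf (nat_lit 0x0)) (lf (nat_lit 0x0)))))) (nd 472 (nd 468 (nd 466 (nd 465 (lf (nat_lit 0x0)) (lf (nat_lit 0x0))) (nd 467 (lf (nat_lit 0x0)) (lf (nat_lit 0x0)))) (nd 470 (nd 469 (lf (nat_lit 0x0)) (lf (nat_lit 0x0))) (nd 471 (lf (nat_lit 0x0)) (lf (nat_lit 0x0))))) (nd 476 (nd 474 (nd 473 (lf (nat_lit 0x0)) (lf (nat_lit 0x0))) (nd 475 (lf (nat_lit 0x0)) (lf (nat_lit 0x6000500000000)))) (nd 478 (nd 477 (lf (nat_lit 0x2000e)) (lf (nat_lit 0x30011))) (nd 479 (lf (nat_lit 0x0)) (lf (nat_lit 0x20011))))))) (nd 496 (nd 488 (nd 484 (nd 482 (nd 481 (lf (nat_lit 0x30011)) (lf (nat_lit 0x0))) (nd 483 (lf (nat_lit 0x5000500000000)) (lf (nat_lit 0x6000500000000)))) (nd 486 (nd 485 (lf (nat_lit 0x6000500000000)) (lf (nat_lit 0x2000f))) (nd 487 (lf (nat_lit 0x0)) (lf (nat_lit 0x0))))) (nd 492 (nd 490 (nd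 489 (lf (nat_lit 0x2000a)) (lf (nat_lit 0x3000a))) (nd 491 (lf (nat_lit 0x0)) (lf (nat_lit 0x10011)))) (nd 494 (nd 493 (lf (nat_lit 0x0)) (lf (nat_lit 0x1000a))) (nd 495 (lf (nat_lit 0x3000a)) (lf (nat_lit 0x2000a)))))) (nd 504 (nd 500 (nd 498 (nd 497 (lf (nat_lit 0x3000a)) (lf (nat_lit 0x7000400000000))) (nd 499 (lf (nat_lit 0x3000500000000)) (lf (nat_lit 0x30010)))) (nd 502 (nd 501 (lf (nat_lit 0x7000500000000)) (lf (nat_lit 0x0))) (nd 503 (lf (nat_lit 0x2000b)) (lf (nat_lit 0x1000c))))) (nd 508 (nd 506 (nd 505 (lf (nat_lit 0x20009)) (lf (nat_lit 0x30007))) (nd 507 (lf (nat_lit 0x3000400000000)) (lf (nat_lit 0x20010)))) (nd 510 (nd 509 (lf (nat_lit 0x3000f)) (lf (nat_lit 0x30010))) (nd 511 (lf (nat_lit 0x6000600000000)) (lf (nat_lit 0x3000b)))))))))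
noncomputable def sl_lab_c4 : ℕ → ℕ := (nd 576 (nd 544 (nd 528 (nd 520 (nd 516 (nd 514 (nd 513 (lf (nat_lit 0x0)) (lf (nat_lit 0x0))) (nd 515 (lf (nat_lit 0x0)) (lf (nat_lit 0x2000b)))) (nd 518 (nd 517 (lf (nat_lit 0x0)) (lf (nat_lit 0x3000a))) (nd 519 (lf (nat_lit 0x0)) (lf (nat_lit 0x4000500000000))))) (nd 524 (nd 522 (nd 521 (lf (nat_lit 0x0)) (lf (nat_lit 0x2000b))) (nd 523 (lf (nat_lit 0x0)) (lf (nat_lit 0x30009)))) (nd 526 (nd 525 (lf (nat_lit 0x0)) (lf (nat_lit 0x0))) (nd 527 (lf (nat_lit 0x4000500000000)) (lf (nat_lit 0x3000500000000)))))) (nd 536 (nd 532 (nd 530 (nd 529 (lf (nat_lit 0x30010)) (lf (nat_lit 0x2000500000000))) (nd 531 (lf (nat_lit 0x2000400000000)) (lf (nat_lit 0x2000c)))) (nd 534 (nd 533 (lf (nat_lit 0x0)) (lf (nat_lit 0x1000d))) (nd 535 (lf (nat_lit 0x0)) (lf (nat_lit 0x0))))) (nd 540 (nd 538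 (nd 537 (lf (nat_lit 0x0)) (lf (nat_lit 0x30009))) (nd 539 (lf (nat_lit 0x2000b)) (lf (nat_lit 0x3000600000000)))) (nd 542 (nd 541 (lf (nat_lit 0x7000400000000)) (lf (nat_lit 0x3000400000000))) (nd 543 (lf (nat_lit 0xf)) (lf (nat_lit 0x4000400000000))))))) (nd 560 (nd 552 (nd 548 (nd 546 (nd 545 (lf (nat_lit 0x3000b)) (lf (nat_lit 0x1000b))) (nd 547 (lf (nat_lit 0x2000b)) (lf (nat_lit 0x30009)))) (nd 550 (nd 549 (lf (nat_lit 0x0)) (lf (nat_lit 0x4000f))) (nd 551 (lf (nat_lit 0x4000500000000)) (lf (nat_lit 0x4000f))))) (nd 556 (nd 554 (nd 553 (lf (nat_lit 0x1000c)) (lf (nat_lit 0x3000500000000))) (nd 555 (lf (nat_lit 0xd)) (lf (nat_lit 0xc)))) (nd 558 (nd 557 (lf (nat_lit 0x1000c)) (lf (nat_lit 0x4000e))) (nd 559 (lf (nat_lit 0x5000600000000)) (lf (nat_lit 0x40010)))))) (nd 568 (nd 564 (nd 562 (nd 561 (lf (nat_lit 0x10009))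 (lf (nat_lit 0x3000a))) (nd 563 (lf (nat_lit 0x2000c)) (lf (nat_lit 0x3000c)))) (nd 566 (nd 565 (lf (nat_lit 0x2000c)) (lf (nat_lit 0x30008))) (nd 567 (lf (nat_lit 0x30007)) (lf (nat_lit 0x20007))))) (nd 572 (nd 570 (nd 569 (lf (nat_lit 0x40005)) (lf (nat_lit 0x3))) (nd 571 (lf (nat_lit 0x7000600000000)) (lf (nat_lit 0x6000500000000)))) (nd 574 (nd 573 (lf (nat_lit 0x1000f)) (lf (nat_lit 0x5000600000000))) (nd 575 (lf (nat_lit 0x5000400000000)) (lf (nat_lit 0x3000b)))))))) (nd 608 (nd 592 (nd 584 (nd 580 (nd 578 (nd 577 (lf (nat_lit 0x0)) (lf (nat_lit 0x1000b))) (nd 579 (lf (nat_lit 0x0)) (lf (nat_lit 0x30008)))) (nd 582 (nd 581 (lf (nat_lit 0x20009)) (lf (nat_lit 0x0))) (nd 583 (lf (nat_lit 0x30008)) (lf (nat_lit 0x3000400000000))))) (nd 588 (nd 586 (nd 585 (lf (nat_lit 0x7000500000000)) (lf (nat_lit 0x10010))) (nd 587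 (lf (nat_lit 0x0)) (lf (nat_lit 0x5000500000000)))) (nd 590 (nd 589 (lf (nat_lit 0x6000500000000)) (lf (nat_lit 0x30012))) (nd 591 (lf (nat_lit 0x0)) (lf (nat_lit 0x20010)))))) (nd 600 (nd 596 (nd 594 (nd 593 (lf (nat_lit 0x0)) (lf (nat_lit 0x0))) (nd 595 (lf (nat_lit 0x0)) (lf (nat_lit 0x0)))) (nd 598 (nd 597 (lf (nat_lit 0x5000400000000)) (lf (nat_lit 0x3000c))) (nd 599 (lf (nat_lit 0x0)) (lf (nat_lit 0x4000d))))) (nd 604 (nd 602 (nd 601 (lf (nat_lit 0x0)) (lf (nat_lit 0x3000d))) (nd 603 (lf (nat_lit 0x0)) (lf (nat_lit 0x0)))) (nd 606 (nd 605 (lf (nat_lit 0x0)) (lf (nat_lit 0xd))) (nd 607 (lf (nat_lit 0x2000f)) (lf (nat_lit 0x0))))))) (nd 624 (nd 616 (nd 612 (nd 610 (nd 609 (lf (nat_lit 0x0)) (lf (nat_lit 0x0))) (nd 611 (lf (nat_lit 0x0)) (lf (nat_lit 0x0)))) (nd 614 (nd 613 (lf (nat_lit 0x0)) (lf (nat_lit 0x0))) (nd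 615 (lf (nat_lit 0x0)) (lf (nat_lit 0x0))))) (nd 620 (nd 618 (nd 617 (lf (nat_lit 0x7000500000000)) (lf (nat_lit 0x20010))) (nd 619 (lf (nat_lit 0x0)) (lf (nat_lit 0x0)))) (nd 622 (nd 621 (lf (nat_lit 0x0)) (lf (nat_lit 0x0))) (nd 623 (lf (nat_lit 0x40011)) (lf (nat_lit 0x6000600000000)))))) (nd 632 (nd 628 (nd 626 (nd 625 (lf (nat_lit 0x0)) (lf (nat_lit 0x0))) (nd 627 (lf (nat_lit 0x30011)) (lf (nat_lit 0x4000f)))) (nd 630 (nd 629 (lf (nat_lit 0x40011)) (lf (nat_lit 0x2000500000000))) (nd 631 (lf (nat_lit 0x40012)) (lf (nat_lit 0x4000b))))) (nd 636 (nd 634 (nd 633 (lf (nat_lit 0x0)) (lf (nat_lit 0x3000b))) (nd 635 (lf (nat_lit 0x0)) (lf (nat_lit 0xb)))) (nd 638 (nd 637 (lf (nat_lit 0x10009)) (lf (nat_lit 0x40010))) (nd 639 (lf (nat_lit 0x0)) (lf (nat_lit 0x0)))))))))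
noncomputable def sl_lab_c5 : ℕ → ℕ := (nd 704 (nd 672 (nd 656 (nd 648 (nd 644 (nd 642 (nd 641 (lf (nat_lit 0x30009)) (lf (nat_lit 0x20009))) (nd 643 (lf (nat_lit 0x0)) (lf (nat_lit 0x0)))) (nd 646 (nd 645 (lf (nat_lit 0x0)) (lf (nat_lit 0x1000400000000))) (nd 647 (lf (nat_lit 0x3000400000000)) (lf (nat_lit 0x7000400000000))))) (nd 652 (nd 650 (nd 649 (lf (nat_lit 0x2000e)) (lf (nat_lit 0x3000500000000))) (nd 651 (lf (nat_lit 0x7000500000000)) (lf (nat_lit 0x400000000)))) (nd 654 (nd 653 (lf (nat_lit 0x30012)) (lf (nat_lit 0x0))) (nd 655 (lf (nat_lit 0x0)) (lf (nat_lit 0x6000400000000)))))) (nd 664 (nd 660 (nd 658 (nd 657 (lf (nat_lit 0x30013)) (lf (nat_lit 0x30013))) (nd 659 (lf (nat_lit 0x0)) (lf (nat_lit 0x30012)))) (nd 662 (nd 661 (lf (nat_lit 0x0)) (lf (nat_lit 0x0))) (nd 663 (lf (nat_lit 0x0)) (lf (nat_lit 0x40010)))))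 (nd 668 (nd 666 (nd 665 (lf (nat_lit 0x30010)) (lf (nat_lit 0x2000d))) (nd 667 (lf (nat_lit 0x0)) (lf (nat_lit 0x4000d)))) (nd 670 (nd 669 (lf (nat_lit 0x0)) (lf (nat_lit 0x0))) (nd 671 (lf (nat_lit 0x0)) (lf (nat_lit 0x3000d))))))) (nd 688 (nd 680 (nd 676 (nd 674 (nd 673 (lf (nat_lit 0x2000d)) (lf (nat_lit 0x40011))) (nd 675 (lf (nat_lit 0x0)) (lf (nat_lit 0x1000d)))) (nd 678 (nd 677 (lf (nat_lit 0xd)) (lf (nat_lit 0x40010))) (nd 679 (lf (nat_lit 0x4000f)) (lf (nat_lit 0x40011))))) (nd 684 (nd 682 (nd 681 (lf (nat_lit 0x3000d)) (lf (nat_lit 0x0))) (nd 683 (lf (nat_lit 0x0)) (lf (nat_lit 0x0)))) (nd 686 (nd 685 (lf (nat_lit 0x0)) (lf (nat_lit 0x0))) (nd 687 (lf (nat_lit 0x0)) (lf (nat_lit 0x0)))))) (nd 696 (nd 692 (nd 690 (nd 689 (lf (nat_lit 0x0)) (lf (nat_lit 0x0))) (nd 691 (lf (nat_lit 0x0)) (lf (nat_lit 0x3000d))))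 (nd 694 (nd 693 (lf (nat_lit 0x2000e)) (lf (nat_lit 0x20011))) (nd 695 (lf (nat_lit 0x40010)) (lf (nat_lit 0x0))))) (nd 700 (nd 698 (nd 697 (lf (nat_lit 0x0)) (lf (nat_lit 0x0))) (nd 699 (lf (nat_lit 0x0)) (lf (nat_lit 0x10012)))) (nd 702 (nd 701 (lf (nat_lit 0x30010)) (lf (nat_lit 0x0))) (nd 703 (lf (nat_lit 0x0)) (lf (nat_lit 0x0)))))))) (nd 736 (nd 720 (nd 712 (nd 708 (nd 706 (nd 705 (lf (nat_lit 0x3000500000000)) (lf (nat_lit 0x3000500000000))) (nd 707 (lf (nat_lit 0x10012)) (lf (nat_lit 0x7000500000000)))) (nd 710 (nd 709 (lf (nat_lit 0x3000e)) (lf (nat_lit 0x10010))) (nd 711 (lf (nat_lit 0x6000500000000)) (lf (nat_lit 0x10010))))) (nd 716 (nd 714 (nd 713 (lf (nat_lit 0x3000b)) (lf (nat_lit 0x1000b))) (nd 715 (lf (nat_lit 0x2000b)) (lf (nat_lit 0x10011)))) (nd 718 (nd 717 (lf (nat_lit 0x20010)) (lf (nat_lit 0x10010)))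 (nd 719 (lf (nat_lit 0xb)) (lf (nat_lit 0x1000b)))))) (nd 728 (nd 724 (nd 722 (nd 721 (lf (nat_lit 0x2000f)) (lf (nat_lit 0x2000b))) (nd 723 (lf (nat_lit 0x3000b)) (lf (nat_lit 0x2000b)))) (nd 726 (nd 725 (lf (nat_lit 0x2000600000000)) (lf (nat_lit 0x3000500000000))) (nd 727 (lf (nat_lit 0x3000f)) (lf (nat_lit 0x3000500000000))))) (nd 732 (nd 730 (nd 729 (lf (nat_lit 0x2000f)) (lf (nat_lit 0x3000400000000))) (nd 731 (lf (nat_lit 0x3000f)) (lf (nat_lit 0x4000e)))) (nd 734 (nd 733 (lf (nat_lit 0x4000f)) (lf (nat_lit 0x2000600000000))) (nd 735 (lf (nat_lit 0x3000a)) (lf (nat_lit 0x1000c))))))) (nd 752 (nd 744 (nd 740 (nd 738 (nd 737 (lf (nat_lit 0xd)) (lf (nat_lit 0x3000e))) (nd 739 (lf (nat_lit 0x1000a)) (lf (nat_lit 0x20008)))) (nd 742 (nd 741 (lf (nat_lit 0x3000400000000)) (lf (nat_lit 0x3000500000000))) (nd 743 (lf (nat_lit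 0x10012)) (lf (nat_lit 0x10011))))) (nd 748 (nd 746 (nd 745 (lf (nat_lit 0x3000f)) (lf (nat_lit 0x30011))) (nd 747 (lf (nat_lit 0x0)) (lf (nat_lit 0x0)))) (nd 750 (nd 749 (lf (nat_lit 0x2000c)) (lf (nat_lit 0x0))) (nd 751 (lf (nat_lit 0x0)) (lf (nat_lit 0x0)))))) (nd 760 (nd 756 (nd 754 (nd 753 (lf (nat_lit 0x0)) (lf (nat_lit 0x1000c))) (nd 755 (lf (nat_lit 0x2000b)) (lf (nat_lit 0x4000400000000)))) (nd 758 (nd 757 (lf (nat_lit 0x6000500000000)) (lf (nat_lit 0x20010))) (nd 759 (lf (nat_lit 0x6000400000000)) (lf (nat_lit 0x0))))) (nd 764 (nd 762 (nd 761 (lf (nat_lit 0x3000c)) (lf (nat_lit 0x0))) (nd 763 (lf (nat_lit 0x1000c)) (lf (nat_lit 0x0)))) (nd 766 (nd 765 (lf (nat_lit 0x0)) (lf (nat_lit 0x0))) (nd 767 (lf (nat_lit 0x2000a)) (lf (nat_lit 0x6000600000000)))))))))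
noncomputable def sl_lab_c6 : ℕ → ℕ := (nd 832 (nd 800 (nd 784 (nd 776 (nd 772 (nd 770 (nd 769 (lf (nat_lit 0x3000f)) (lf (nat_lit 0x4000500000000))) (nd 771 (lf (nat_lit 0xf)) (lf (nat_lit 0x3000f)))) (nd 774 (nd 773 (lf (nat_lit 0xd)) (lf (nat_lit 0x4000d))) (nd 775 (lf (nat_lit 0x1000d)) (lf (nat_lit 0x0))))) (nd 780 (nd 778 (nd 777 (lf (nat_lit 0x0)) (lf (nat_lit 0xe))) (nd 779 (lf (nat_lit 0x1000c)) (lf (nat_lit 0x0)))) (nd 782 (nd 781 (lf (nat_lit 0x0)) (lf (nat_lit 0x0))) (nd 783 (lf (nat_lit 0x0)) (lf (nat_lit 0x2000a)))))) (nd 792 (nd 788 (nd 786 (nd 785 (lf (nat_lit 0x3000c)) (lf (nat_lit 0x7000600000000))) (nd 787 (lf (nat_lit 0x1000f)) (lf (nat_lit 0x3000600000000)))) (nd 790 (nd 789 (lf (nat_lit 0x0)) (lf (nat_lit 0x6000400000000))) (nd 791 (lf (nat_lit 0x1000e)) (lf (nat_lit 0x4000400000000))))) (nd 796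 (nd 794 (nd 793 (lf (nat_lit 0x3000400000000)) (lf (nat_lit 0x2000e))) (nd 795 (lf (nat_lit 0x3000300000000)) (lf (nat_lit 0x2000e)))) (nd 798 (nd 797 (lf (nat_lit 0x1000c)) (lf (nat_lit 0xd))) (nd 799 (lf (nat_lit 0x3000c)) (lf (nat_lit 0xc))))))) (nd 816 (nd 808 (nd 804 (nd 802 (nd 801 (lf (nat_lit 0x1000c)) (lf (nat_lit 0x3000d))) (nd 803 (lf (nat_lit 0x3000c)) (lf (nat_lit 0x2000a)))) (nd 806 (nd 805 (lf (nat_lit 0x0)) (lf (nat_lit 0x0))) (nd 807 (lf (nat_lit 0x10011)) (lf (nat_lit 0x4000e))))) (nd 812 (nd 810 (nd 809 (lf (nat_lit 0x4000f)) (lf (nat_lit 0x4000e))) (nd 811 (lf (nat_lit 0x1000b)) (lf (nat_lit 0x40011)))) (nd 814 (nd 813 (lf (nat_lit 0x1000e)) (lf (nat_lit 0x1000d))) (nd 815 (lf (nat_lit 0xd)) (lf (nat_lit 0x4000e)))))) (nd 824 (nd 820 (nd 818 (nd 817 (lf (nat_lit 0x3000d)) (lf (nat_lit 0x4000e))) (nd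 819 (lf (nat_lit 0xc)) (lf (nat_lit 0x40011)))) (nd 822 (nd 821 (lf (nat_lit 0x4000f)) (lf (nat_lit 0x40010))) (nd 823 (lf (nat_lit 0xa)) (lf (nat_lit 0x10008))))) (nd 828 (nd 826 (nd 825 (lf (nat_lit 0x4000f)) (lf (nat_lit 0x2000b))) (nd 827 (lf (nat_lit 0x1000d)) (lf (nat_lit 0x2000c)))) (nd 830 (nd 829 (lf (nat_lit 0x3000c)) (lf (nat_lit 0x4000d))) (nd 831 (lf (nat_lit 0x2000c)) (lf (nat_lit 0x1000d)))))))) (nd 864 (nd 848 (nd 840 (nd 836 (nd 834 (nd 833 (lf (nat_lit 0x20009)) (lf (nat_lit 0x20008))) (nd 835 (lf (nat_lit 0x0)) (lf (nat_lit 0x4000500000000)))) (nd 838 (nd 837 (lf (nat_lit 0x10)) (lf (nat_lit 0x7000600000000))) (nd 839 (lf (nat_lit 0x4000500000000)) (lf (nat_lit 0x7000600000000))))) (nd 844 (nd 842 (nd 841 (lf (nat_lit 0x1000f)) (lf (nat_lit 0x5000600000000))) (nd 843 (lf (nat_lit 0x2000e)) (lf (nat_lit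 0x10010)))) (nd 846 (nd 845 (lf (nat_lit 0x6000400000000)) (lf (nat_lit 0x11))) (nd 847 (lf (nat_lit 0x4000c)) (lf (nat_lit 0x0)))))) (nd 856 (nd 852 (nd 850 (nd 849 (lf (nat_lit 0x3000c)) (lf (nat_lit 0x0))) (nd 851 (lf (nat_lit 0xc)) (lf (nat_lit 0x1000a)))) (nd 854 (nd 853 (lf (nat_lit 0x2000f)) (lf (nat_lit 0x0))) (nd 855 (lf (nat_lit 0x0)) (lf (nat_lit 0x20009))))) (nd 860 (nd 858 (nd 857 (lf (nat_lit 0x3000a)) (lf (nat_lit 0x0))) (nd 859 (lf (nat_lit 0x20009)) (lf (nat_lit 0x3000500000000)))) (nd 862 (nd 861 (lf (nat_lit 0x3000500000000)) (lf (nat_lit 0x3000e))) (nd 863 (lf (nat_lit 0x6000400000000)) (lf (nat_lit 0x30011))))))) (nd 880 (nd 872 (nd 868 (nd 866 (nd 865 (lf (nat_lit 0x0)) (lf (nat_lit 0x6000500000000))) (nd 867 (lf (nat_lit 0x40012)) (lf (nat_lit 0x20012)))) (nd 870 (nd 869 (lf (nat_lit 0x0)) (lf (nat_lit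 0x30011))) (nd 871 (lf (nat_lit 0x0)) (lf (nat_lit 0x0))))) (nd 876 (nd 874 (nd 873 (lf (nat_lit 0x2000f)) (lf (nat_lit 0x4000e))) (nd 875 (lf (nat_lit 0x0)) (lf (nat_lit 0x0)))) (nd 878 (nd 877 (lf (nat_lit 0x0)) (lf (nat_lit 0x0))) (nd 879 (lf (nat_lit 0x0)) (lf (nat_lit 0x4000d)))))) (nd 888 (nd 884 (nd 882 (nd 881 (lf (nat_lit 0x0)) (lf (nat_lit 0x3000d))) (nd 883 (lf (nat_lit 0x4000e)) (lf (nat_lit 0x0)))) (nd 886 (nd 885 (lf (nat_lit 0x0)) (lf (nat_lit 0x0))) (nd 887 (lf (nat_lit 0x3000e)) (lf (nat_lit 0x2000e))))) (nd 892 (nd 890 (nd 889 (lf (nat_lit 0xf)) (lf (nat_lit 0x0))) (nd 891 (lf (nat_lit 0x1000e)) (lf (nat_lit 0x3000f)))) (nd 894 (nd 893 (lf (nat_lit 0x10010)) (lf (nat_lit 0x4000e))) (nd 895 (lf (nat_lit 0x0)) (lf (nat_lit 0x0)))))))))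
noncomputable def sl_lab_c7 : ℕ → ℕ := (nd 960 (nd 928 (nd 912 (nd 904 (nd 900 (nd 898 (nd 897 (lf (nat_lit 0x0)) (lf (nat_lit 0x0))) (nd 899 (lf (nat_lit 0x0)) (lf (nat_lit 0x0)))) (nd 902 (nd 901 (lf (nat_lit 0x0)) (lf (nat_lit 0x0))) (nd 903 (lf (nat_lit 0x20010)) (lf (nat_lit 0x3000f))))) (nd 908 (nd 906 (nd 905 (lf (nat_lit 0x0)) (lf (nat_lit 0x0))) (nd 907 (lf (nat_lit 0x0)) (lf (nat_lit 0x0)))) (nd 910 (nd 909 (lf (nat_lit 0x0)) (lf (nat_lit 0x0))) (nd 911 (lf (nat_lit 0x0)) (lf (nat_lit 0x0)))))) (nd 920 (nd 916 (nd 914 (nd 913 (lf (nat_lit 0x0)) (lf (nat_lit 0x0))) (nd 915 (lf (nat_lit 0x30012)) (lf (nat_lit 0x0)))) (nd 918 (nd 917 (lf (nat_lit 0x20012)) (lf (nat_lit 0x30011))) (nd 919 (lf (nat_lit 0x30010)) (lf (nat_lit 0x30012))))) (nd 924 (nd 922 (nd 921 (lf (nat_lit 0x4000f)) (lf (nat_lit 0x4000e))) (nd 923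 (lf (nat_lit 0x3000e)) (lf (nat_lit 0x20012)))) (nd 926 (nd 925 (lf (nat_lit 0x20012)) (lf (nat_lit 0x4000c))) (nd 927 (lf (nat_lit 0x0)) (lf (nat_lit 0x3000c))))))) (nd 944 (nd 936 (nd 932 (nd 930 (nd 929 (lf (nat_lit 0x2000c)) (lf (nat_lit 0x30011))) (nd 931 (lf (nat_lit 0x0)) (lf (nat_lit 0x0)))) (nd 934 (nd 933 (lf (nat_lit 0x1000c)) (lf (nat_lit 0xa))) (nd 935 (lf (nat_lit 0x40011)) (lf (nat_lit 0x1000a))))) (nd 940 (nd 938 (nd 937 (lf (nat_lit 0x4000f)) (lf (nat_lit 0x2000e))) (nd 939 (lf (nat_lit 0x0)) (lf (nat_lit 0x2000a)))) (nd 942 (nd 941 (lf (nat_lit 0x0)) (lf (nat_lit 0x4000400000000))) (nd 943 (lf (nat_lit 0x4000e)) (lf (nat_lit 0x3000d)))))) (nd 952 (nd 948 (nd 946 (nd 945 (lf (nat_lit 0x7000400000000)) (lf (nat_lit 0x3000400000000))) (nd 947 (lf (nat_lit 0x1000f)) (lf (nat_lit 0x1000400000000)))) (nd 950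 (nd 949 (lf (nat_lit 0xe)) (lf (nat_lit 0x0))) (nd 951 (lf (nat_lit 0x6000400000000)) (lf (nat_lit 0x30013))))) (nd 956 (nd 954 (nd 953 (lf (nat_lit 0x30013)) (lf (nat_lit 0x0))) (nd 955 (lf (nat_lit 0x0)) (lf (nat_lit 0x0)))) (nd 958 (nd 957 (lf (nat_lit 0x30013)) (lf (nat_lit 0x40013))) (nd 959 (lf (nat_lit 0x0)) (lf (nat_lit 0x20013)))))))) (nd 992 (nd 976 (nd 968 (nd 964 (nd 962 (nd 961 (lf (nat_lit 0x0)) (lf (nat_lit 0x0))) (nd 963 (lf (nat_lit 0x0)) (lf (nat_lit 0x30011)))) (nd 966 (nd 965 (lf (nat_lit 0x30012)) (lf (nat_lit 0x2000d))) (nd 967 (lf (nat_lit 0x0)) (lf (nat_lit 0x4000f))))) (nd 972 (nd 970 (nd 969 (lf (nat_lit 0x3000c)) (lf (nat_lit 0x2000d))) (nd 971 (lf (nat_lit 0x0)) (lf (nat_lit 0x0)))) (nd 974 (nd 973 (lf (nat_lit 0x0)) (lf (nat_lit 0x4000e))) (nd 975 (lf (nat_lit 0x3000c)) (lf (nat_lit 0x30010))))))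 (nd 984 (nd 980 (nd 978 (nd 977 (lf (nat_lit 0x0)) (lf (nat_lit 0x3000e))) (nd 979 (lf (nat_lit 0x2000e)) (lf (nat_lit 0x30011)))) (nd 982 (nd 981 (lf (nat_lit 0x40012)) (lf (nat_lit 0x0))) (nd 983 (lf (nat_lit 0x0)) (lf (nat_lit 0x1000e))))) (nd 988 (nd 986 (nd 985 (lf (nat_lit 0x3000f)) (lf (nat_lit 0x3000d))) (nd 987 (lf (nat_lit 0x20012)) (lf (nat_lit 0x30011)))) (nd 990 (nd 989 (lf (nat_lit 0x20011)) (lf (nat_lit 0x0))) (nd 991 (lf (nat_lit 0x0)) (lf (nat_lit 0x0))))))) (nd 1008 (nd 1000 (nd 996 (nd 994 (nd 993 (lf (nat_lit 0x0)) (lf (nat_lit 0x0))) (nd 995 (lf (nat_lit 0x0)) (lf (nat_lit 0x0)))) (nd 998 (nd 997 (lf (nat_lit 0x3000c)) (lf (nat_lit 0x2000f))) (nd 999 (lf (nat_lit 0x3000d)) (lf (nat_lit 0x10012))))) (nd 1004 (nd 1002 (nd 1001 (lf (nat_lit 0x30010)) (lf (nat_lit 0x4000f))) (nd 1003 (lf (nat_lit 0x0))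 (lf (nat_lit 0x0)))) (nd 1006 (nd 1005 (lf (nat_lit 0x0)) (lf (nat_lit 0x0))) (nd 1007 (lf (nat_lit 0x30013)) (lf (nat_lit 0x20011)))))) (nd 1016 (nd 1012 (nd 1010 (nd 1009 (lf (nat_lit 0x10011)) (lf (nat_lit 0x20011))) (nd 1011 (lf (nat_lit 0x12)) (lf (nat_lit 0x3000f)))) (nd 1014 (nd 1013 (lf (nat_lit 0x0)) (lf (nat_lit 0x0))) (nd 1015 (lf (nat_lit 0x0)) (lf (nat_lit 0x2000500000000))))) (nd 1020 (nd 1018 (nd 1017 (lf (nat_lit 0x7000600000000)) (lf (nat_lit 0x10012))) (nd 1019 (lf (nat_lit 0x4000500000000)) (lf (nat_lit 0x40012)))) (nd 1022 (nd 1021 (lf (nat_lit 0x4000600000000)) (lf (nat_lit 0x3000f))) (nd 1023 (lf (nat_lit 0x11)) (lf (nat_lit 0x10011)))))))))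
noncomputable def sl_lab_c8 : ℕ → ℕ := (nd 1088 (nd 1056 (nd 1040 (nd 1032 (nd 1028 (nd 1026 (nd 1025 (lf (nat_lit 0x20012)) (lf (nat_lit 0x2000f))) (nd 1027 (lf (nat_lit 0x3000c)) (lf (nat_lit 0xc)))) (nd 1030 (nd 1029 (lf (nat_lit 0x1000c)) (lf (nat_lit 0x3000e))) (nd 1031 (lf (nat_lit 0x2000c)) (lf (nat_lit 0x20010))))) (nd 1036 (nd 1034 (nd 1033 (lf (nat_lit 0x2000f)) (lf (nat_lit 0x3000f))) (nd 1035 (lf (nat_lit 0x3000e)) (lf (nat_lit 0x2000f)))) (nd 1038 (nd 1037 (lf (nat_lit 0x1000c)) (lf (nat_lit 0xc))) (nd 1039 (lf (nat_lit 0x20010)) (lf (nat_lit 0x3000c)))))) (nd 1048 (nd 1044 (nd 1042 (nd 1041 (lf (nat_lit 0x3000e)) (lf (nat_lit 0x3000e))) (nd 1043 (lf (nat_lit 0x4000c)) (lf (nat_lit 0x3000c)))) (nd 1046 (nd 1045 (lf (nat_lit 0x1000c)) (lf (nat_lit 0x4000600000000))) (nd 1047 (lf (nat_lit 0x30011)) (lf (nat_lit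 0x1000e))))) (nd 1052 (nd 1050 (nd 1049 (lf (nat_lit 0x3000e)) (lf (nat_lit 0xe))) (nd 1051 (lf (nat_lit 0x4000e)) (lf (nat_lit 0x2000e)))) (nd 1054 (nd 1053 (lf (nat_lit 0x3000e)) (lf (nat_lit 0x4000d))) (nd 1055 (lf (nat_lit 0x4000d)) (lf (nat_lit 0x3000f))))))) (nd 1072 (nd 1064 (nd 1060 (nd 1058 (nd 1057 (lf (nat_lit 0x1000f)) (lf (nat_lit 0x3000b))) (nd 1059 (lf (nat_lit 0xd)) (lf (nat_lit 0x1000d)))) (nd 1062 (nd 1061 (lf (nat_lit 0x2000d)) (lf (nat_lit 0x1000e))) (nd 1063 (lf (nat_lit 0x3000f)) (lf (nat_lit 0x3000e))))) (nd 1068 (nd 1066 (nd 1065 (lf (nat_lit 0x4000e)) (lf (nat_lit 0xb))) (nd 1067 (lf (nat_lit 0x10009)) (lf (nat_lit 0x2000e)))) (nd 1070 (nd 1069 (lf (nat_lit 0x30009)) (lf (nat_lit 0x7000400000000))) (nd 1071 (lf (nat_lit 0x10012)) (lf (nat_lit 0x12)))))) (nd 1080 (nd 1076 (nd 1074 (nd 1073 (lf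 (nat_lit 0x11)) (lf (nat_lit 0x0))) (nd 1075 (lf (nat_lit 0x10010)) (lf (nat_lit 0x30010)))) (nd 1078 (nd 1077 (lf (nat_lit 0x4000e)) (lf (nat_lit 0x30012))) (nd 1079 (lf (nat_lit 0x30010)) (lf (nat_lit 0x20012))))) (nd 1084 (nd 1082 (nd 1081 (lf (nat_lit 0x0)) (lf (nat_lit 0x0))) (nd 1083 (lf (nat_lit 0x0)) (lf (nat_lit 0x3000d)))) (nd 1086 (nd 1085 (lf (nat_lit 0x0)) (lf (nat_lit 0x1000d))) (nd 1087 (lf (nat_lit 0x0)) (lf (nat_lit 0x4000600000000)))))))) (nd 1120 (nd 1104 (nd 1096 (nd 1092 (nd 1090 (nd 1089 (lf (nat_lit 0x4000400000000)) (lf (nat_lit 0x2000f))) (nd 1091 (lf (nat_lit 0x4000500000000)) (lf (nat_lit 0x2000400000000)))) (nd 1094 (nd 1093 (lf (nat_lit 0x40010)) (lf (nat_lit 0x2000f))) (nd 1095 (lf (nat_lit 0x1000d)) (lf (nat_lit 0x4000d))))) (nd 1100 (nd 1098 (nd 1097 (lf (nat_lit 0x3000d)) (lf (nat_lit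 0x0))) (nd 1099 (lf (nat_lit 0x0)) (lf (nat_lit 0xd)))) (nd 1102 (nd 1101 (lf (nat_lit 0x1000b)) (lf (nat_lit 0x0))) (nd 1103 (lf (nat_lit 0x0)) (lf (nat_lit 0x0)))))) (nd 1112 (nd 1108 (nd 1106 (nd 1105 (lf (nat_lit 0x0)) (lf (nat_lit 0x3000b))) (nd 1107 (lf (nat_lit 0x30011)) (lf (nat_lit 0xe)))) (nd 1110 (nd 1109 (lf (nat_lit 0x3000e)) (lf (nat_lit 0x2000d))) (nd 1111 (lf (nat_lit 0x2000e)) (lf (nat_lit 0x0))))) (nd 1116 (nd 1114 (nd 1113 (lf (nat_lit 0x4000e)) (lf (nat_lit 0x4000e))) (nd 1115 (lf (nat_lit 0x0)) (lf (nat_lit 0x0)))) (nd 1118 (nd 1117 (lf (nat_lit 0x0)) (lf (nat_lit 0x2000e))) (nd 1119 (lf (nat_lit 0xd)) (lf (nat_lit 0x0))))))) (nd 1136 (nd 1128 (nd 1124 (nd 1122 (nd 1121 (lf (nat_lit 0x0)) (lf (nat_lit 0x0))) (nd 1123 (lf (nat_lit 0x0)) (lf (nat_lit 0x1000b)))) (nd 1126 (nd 1125 (lf (nat_lit 0x3000b))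 (lf (nat_lit 0x4000d))) (nd 1127 (lf (nat_lit 0x10)) (lf (nat_lit 0x10))))) (nd 1132 (nd 1130 (nd 1129 (lf (nat_lit 0x10010)) (lf (nat_lit 0x1000e))) (nd 1131 (lf (nat_lit 0xd)) (lf (nat_lit 0x7000400000000)))) (nd 1134 (nd 1133 (lf (nat_lit 0xe)) (lf (nat_lit 0x3000e))) (nd 1135 (lf (nat_lit 0x3000e)) (lf (nat_lit 0x3000d)))))) (nd 1144 (nd 1140 (nd 1138 (nd 1137 (lf (nat_lit 0x1000b)) (lf (nat_lit 0x2000d))) (nd 1139 (lf (nat_lit 0x3000d)) (lf (nat_lit 0x2000d)))) (nd 1142 (nd 1141 (lf (nat_lit 0x2000c)) (lf (nat_lit 0x1000d))) (nd 1143 (lf (nat_lit 0xd)) (lf (nat_lit 0x2000d))))) (nd 1148 (nd 1146 (nd 1145 (lf (nat_lit 0x3000d)) (lf (nat_lit 0x3000d))) (nd 1147 (lf (nat_lit 0xc)) (lf (nat_lit 0x4000d)))) (nd 1150 (nd 1149 (lf (nat_lit 0x3000b)) (lf (nat_lit 0x10011))) (nd 1151 (lf (nat_lit 0x2000600000000)) (lf (nat_lit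 0x11)))))))))
noncomputable def sl_lab_c9 : ℕ → ℕ := (nd 1216 (nd 1184 (nd 1168 (nd 1160 (nd 1156 (nd 1154 (nd 1153 (lf (nat_lit 0x10)) (lf (nat_lit 0x4000d))) (nd 1155 (lf (nat_lit 0x4000f)) (lf (nat_lit 0x1000d)))) (nd 1158 (nd 1157 (lf (nat_lit 0x4000f)) (lf (nat_lit 0x30010))) (nd 1159 (lf (nat_lit 0x2000d)) (lf (nat_lit 0xd))))) (nd 1164 (nd 1162 (nd 1161 (lf (nat_lit 0x2000c)) (lf (nat_lit 0x2000d))) (nd 1163 (lf (nat_lit 0xd)) (lf (nat_lit 0x3000e)))) (nd 1166 (nd 1165 (lf (nat_lit 0x2000d)) (lf (nat_lit 0x3000e))) (nd 1167 (lf (nat_lit 0x4000d)) (lf (nat_lit 0x4000f)))))) (nd 1176 (nd 1172 (nd 1170 (nd 1169 (lf (nat_lit 0x4000e)) (lf (nat_lit 0x4000f))) (nd 1171 (lf (nat_lit 0x4000f)) (lf (nat_lit 0xb)))) (nd 1174 (nd 1173 (lf (nat_lit 0x1000d)) (lf (nat_lit 0x30011))) (nd 1175 (lf (nat_lit 0x4000f)) (lf (nat_lit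 0x4000e))))) (nd 1180 (nd 1178 (nd 1177 (lf (nat_lit 0x2000d)) (lf (nat_lit 0x4000f))) (nd 1179 (lf (nat_lit 0x1000b)) (lf (nat_lit 0x9)))) (nd 1182 (nd 1181 (lf (nat_lit 0x20010)) (lf (nat_lit 0x10009))) (nd 1183 (lf (nat_lit 0x30010)) (lf (nat_lit 0x1000c))))))) (nd 1200 (nd 1192 (nd 1188 (nd 1186 (nd 1185 (lf (nat_lit 0x2000b)) (lf (nat_lit 0xe))) (nd 1187 (lf (nat_lit 0x1000d)) (lf (nat_lit 0x1000f)))) (nd 1190 (nd 1189 (lf (nat_lit 0x3000e)) (lf (nat_lit 0x4000d))) (nd 1191 (lf (nat_lit 0x4000d)) (lf (nat_lit 0x4000d))))) (nd 1196 (nd 1194 (nd 1193 (lf (nat_lit 0x1000d)) (lf (nat_lit 0x3000a))) (nd 1195 (lf (nat_lit 0xe)) (lf (nat_lit 0x3000f)))) (nd 1198 (nd 1197 (lf (nat_lit 0x1000a)) (lf (nat_lit 0x6000500000000))) (nd 1199 (lf (nat_lit 0x4000600000000)) (lf (nat_lit 0x10)))))) (nd 1208 (nd 1204 (nd 1202 (nd 1201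 (lf (nat_lit 0x10011)) (lf (nat_lit 0x10010))) (nd 1203 (lf (nat_lit 0x40010)) (lf (nat_lit 0x2000e)))) (nd 1206 (nd 1205 (lf (nat_lit 0x20012)) (lf (nat_lit 0x3000e))) (nd 1207 (lf (nat_lit 0x3000d)) (lf (nat_lit 0x3000d))))) (nd 1212 (nd 1210 (nd 1209 (lf (nat_lit 0x12)) (lf (nat_lit 0x12))) (nd 1211 (lf (nat_lit 0x4000d)) (lf (nat_lit 0x3000d)))) (nd 1214 (nd 1213 (lf (nat_lit 0x2000d)) (lf (nat_lit 0x30010))) (nd 1215 (lf (nat_lit 0x0)) (lf (nat_lit 0x0)))))))) (nd 1248 (nd 1232 (nd 1224 (nd 1220 (nd 1218 (nd 1217 (lf (nat_lit 0x1000d)) (lf (nat_lit 0xb))) (nd 1219 (lf (nat_lit 0x20010)) (lf (nat_lit 0x3000b)))) (nd 1222 (nd 1221 (lf (nat_lit 0x3000e)) (lf (nat_lit 0x3000e))) (nd 1223 (lf (nat_lit 0x0)) (lf (nat_lit 0x1000a))))) (nd 1228 (nd 1226 (nd 1225 (lf (nat_lit 0x3000a)) (lf (nat_lit 0x0))) (nd 1227 (lf (nat_lit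 0x0)) (lf (nat_lit 0x1000a)))) (nd 1230 (nd 1229 (lf (nat_lit 0x3000a)) (lf (nat_lit 0x40012))) (nd 1231 (lf (nat_lit 0x40012)) (lf (nat_lit 0x0)))))) (nd 1240 (nd 1236 (nd 1234 (nd 1233 (lf (nat_lit 0x0)) (lf (nat_lit 0x30010))) (nd 1235 (lf (nat_lit 0x0)) (lf (nat_lit 0x0)))) (nd 1238 (nd 1237 (lf (nat_lit 0x4000e)) (lf (nat_lit 0x0))) (nd 1239 (lf (nat_lit 0x2000e)) (lf (nat_lit 0x3000e))))) (nd 1244 (nd 1242 (nd 1241 (lf (nat_lit 0x2000f)) (lf (nat_lit 0x0))) (nd 1243 (lf (nat_lit 0x4000e)) (lf (nat_lit 0x1000e)))) (nd 1246 (nd 1245 (lf (nat_lit 0xe)) (lf (nat_lit 0x10010))) (nd 1247 (lf (nat_lit 0x2000d)) (lf (nat_lit 0x0))))))) (nd 1264 (nd 1256 (nd 1252 (nd 1250 (nd 1249 (lf (nat_lit 0x0)) (lf (nat_lit 0x0))) (nd 1251 (lf (nat_lit 0x11)) (lf (nat_lit 0x10010)))) (nd 1254 (nd 1253 (lf (nat_lit 0x10011)) (lf (nat_lit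 0x0))) (nd 1255 (lf (nat_lit 0x0)) (lf (nat_lit 0x0))))) (nd 1260 (nd 1258 (nd 1257 (lf (nat_lit 0x0)) (lf (nat_lit 0x0))) (nd 1259 (lf (nat_lit 0x0)) (lf (nat_lit 0x0)))) (nd 1262 (nd 1261 (lf (nat_lit 0x0)) (lf (nat_lit 0x0))) (nd 1263 (lf (nat_lit 0x20011)) (lf (nat_lit 0x1000f)))))) (nd 1272 (nd 1268 (nd 1266 (nd 1265 (lf (nat_lit 0x2000e)) (lf (nat_lit 0x0))) (nd 1267 (lf (nat_lit 0x0)) (lf (nat_lit 0x0)))) (nd 1270 (nd 1269 (lf (nat_lit 0x0)) (lf (nat_lit 0x0))) (nd 1271 (lf (nat_lit 0x0)) (lf (nat_lit 0x0))))) (nd 1276 (nd 1274 (nd 1273 (lf (nat_lit 0x30012)) (lf (nat_lit 0x20012))) (nd 1275 (lf (nat_lit 0x40013)) (lf (nat_lit 0x30010)))) (nd 1278 (nd 1277 (lf (nat_lit 0x20013)) (lf (nat_lit 0x30010))) (nd 1279 (lf (nat_lit 0x30011)) (lf (nat_lit 0x4000d)))))))))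
noncomputable def sl_lab_c10 : ℕ → ℕ := (nd 1344 (nd 1312 (nd 1296 (nd 1288 (nd 1284 (nd 1282 (nd 1281 (lf (nat_lit 0x4000d)) (lf (nat_lit 0x30012))) (nd 1283 (lf (nat_lit 0x0)) (lf (nat_lit 0x0)))) (nd 1286 (nd 1285 (lf (nat_lit 0x3000d)) (lf (nat_lit 0xd))) (nd 1287 (lf (nat_lit 0x2000d)) (lf (nat_lit 0x0))))) (nd 1292 (nd 1290 (nd 1289 (lf (nat_lit 0x1000b)) (lf (nat_lit 0x40010))) (nd 1291 (lf (nat_lit 0x0)) (lf (nat_lit 0x3000b)))) (nd 1294 (nd 1293 (lf (nat_lit 0x7000500000000)) (lf (nat_lit 0x6000400000000))) (nd 1295 (lf (nat_lit 0x4000f)) (lf (nat_lit 0x0)))))) (nd 1304 (nd 1300 (nd 1298 (nd 1297 (lf (nat_lit 0x6000400000000)) (lf (nat_lit 0x10010))) (nd 1299 (lf (nat_lit 0x7000300000000)) (lf (nat_lit 0x3000e)))) (nd 1302 (nd 1301 (lf (nat_lit 0x3000f)) (lf (nat_lit 0x0))) (nd 1303 (lf (nat_lit 0x30013)) (lf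 (nat_lit 0x0))))) (nd 1308 (nd 1306 (nd 1305 (lf (nat_lit 0x30012)) (lf (nat_lit 0x0))) (nd 1307 (lf (nat_lit 0x30012)) (lf (nat_lit 0x0)))) (nd 1310 (nd 1309 (lf (nat_lit 0x30012)) (lf (nat_lit 0x30012))) (nd 1311 (lf (nat_lit 0x4000e)) (lf (nat_lit 0x0))))))) (nd 1328 (nd 1320 (nd 1316 (nd 1314 (nd 1313 (lf (nat_lit 0x3000e)) (lf (nat_lit 0x0))) (nd 1315 (lf (nat_lit 0x0)) (lf (nat_lit 0x0)))) (nd 1318 (nd 1317 (lf (nat_lit 0x4000e)) (lf (nat_lit 0x3000c))) (nd 1319 (lf (nat_lit 0x0)) (lf (nat_lit 0x0))))) (nd 1324 (nd 1322 (nd 1321 (lf (nat_lit 0x0)) (lf (nat_lit 0x0))) (nd 1323 (lf (nat_lit 0x4000f)) (lf (nat_lit 0x3000d)))) (nd 1326 (nd 1325 (lf (nat_lit 0x30010)) (lf (nat_lit 0x2000b))) (nd 1327 (lf (nat_lit 0x30011)) (lf (nat_lit 0x0)))))) (nd 1336 (nd 1332 (nd 1330 (nd 1329 (lf (nat_lit 0x0)) (lf (nat_lit 0x2000f)))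 (nd 1331 (lf (nat_lit 0x0)) (lf (nat_lit 0x0)))) (nd 1334 (nd 1333 (lf (nat_lit 0x2000e)) (lf (nat_lit 0x2000d))) (nd 1335 (lf (nat_lit 0x30010)) (lf (nat_lit 0x30011))))) (nd 1340 (nd 1338 (nd 1337 (lf (nat_lit 0x10010)) (lf (nat_lit 0x30010))) (nd 1339 (lf (nat_lit 0x0)) (lf (nat_lit 0x0)))) (nd 1342 (nd 1341 (lf (nat_lit 0x0)) (lf (nat_lit 0x0))) (nd 1343 (lf (nat_lit 0x0)) (lf (nat_lit 0x0)))))))) (nd 1376 (nd 1360 (nd 1352 (nd 1348 (nd 1346 (nd 1345 (lf (nat_lit 0x0)) (lf (nat_lit 0x10010))) (nd 1347 (lf (nat_lit 0x3000e)) (lf (nat_lit 0x40011)))) (nd 1350 (nd 1349 (lf (nat_lit 0x4000f)) (lf (nat_lit 0x2000f))) (nd 1351 (lf (nat_lit 0x3000e)) (lf (nat_lit 0x0))))) (nd 1356 (nd 1354 (nd 1353 (lf (nat_lit 0x0)) (lf (nat_lit 0x40012))) (nd 1355 (lf (nat_lit 0x30010)) (lf (nat_lit 0x20010)))) (nd 1358 (nd 1357 (lf (nat_lit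 0x20010)) (lf (nat_lit 0x10))) (nd 1359 (lf (nat_lit 0x30010)) (lf (nat_lit 0x11)))))) (nd 1368 (nd 1364 (nd 1362 (nd 1361 (lf (nat_lit 0x3000e)) (lf (nat_lit 0x40011))) (nd 1363 (lf (nat_lit 0x1000d)) (lf (nat_lit 0x0)))) (nd 1366 (nd 1365 (lf (nat_lit 0x40013)) (lf (nat_lit 0x11))) (nd 1367 (lf (nat_lit 0x30012)) (lf (nat_lit 0x11))))) (nd 1372 (nd 1370 (nd 1369 (lf (nat_lit 0x10010)) (lf (nat_lit 0x12))) (nd 1371 (lf (nat_lit 0x10011)) (lf (nat_lit 0x11)))) (nd 1374 (nd 1373 (lf (nat_lit 0x2000e)) (lf (nat_lit 0x3000e))) (nd 1375 (lf (nat_lit 0xf)) (lf (nat_lit 0x3000d))))))) (nd 1392 (nd 1384 (nd 1380 (nd 1378 (nd 1377 (lf (nat_lit 0x1000d)) (lf (nat_lit 0xd))) (nd 1379 (lf (nat_lit 0x3000f)) (lf (nat_lit 0x1000d)))) (nd 1382 (nd 1381 (lf (nat_lit 0x4000f)) (lf (nat_lit 0x1000e))) (nd 1383 (lf (nat_lit 0x4000d)) (lf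 (nat_lit 0x2000f))))) (nd 1388 (nd 1386 (nd 1385 (lf (nat_lit 0x10010)) (lf (nat_lit 0x3000e))) (nd 1387 (lf (nat_lit 0xe)) (lf (nat_lit 0x2000f)))) (nd 1390 (nd 1389 (lf (nat_lit 0xd)) (lf (nat_lit 0x2000d))) (nd 1391 (lf (nat_lit 0x4000d)) (lf (nat_lit 0x40011)))))) (nd 1400 (nd 1396 (nd 1394 (nd 1393 (lf (nat_lit 0x3000c)) (lf (nat_lit 0x4000d))) (nd 1395 (lf (nat_lit 0x3000f)) (lf (nat_lit 0x3000d)))) (nd 1398 (nd 1397 (lf (nat_lit 0x3000d)) (lf (nat_lit 0xd))) (nd 1399 (lf (nat_lit 0x30012)) (lf (nat_lit 0x30010))))) (nd 1404 (nd 1402 (nd 1401 (lf (nat_lit 0x11)) (lf (nat_lit 0x2000f))) (nd 1403 (lf (nat_lit 0x1000e)) (lf (nat_lit 0x1000d)))) (nd 1406 (nd 1405 (lf (nat_lit 0x4000d)) (lf (nat_lit 0x3000d))) (nd 1407 (lf (nat_lit 0x4000c)) (lf (nat_lit 0x2000e)))))))))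
noncomputable def sl_lab_c11 : ℕ → ℕ := (nd 1472 (nd 1440 (nd 1424 (nd 1416 (nd 1412 (nd 1410 (nd 1409 (lf (nat_lit 0x3000c)) (lf (nat_lit 0xe))) (nd 1411 (lf (nat_lit 0x2000e)) (lf (nat_lit 0x2000e)))) (nd 1414 (nd 1413 (lf (nat_lit 0x4000e)) (lf (nat_lit 0x20010))) (nd 1415 (lf (nat_lit 0x3000f)) (lf (nat_lit 0x2000f))))) (nd 1420 (nd 1418 (nd 1417 (lf (nat_lit 0x1000c)) (lf (nat_lit 0xa))) (nd 1419 (lf (nat_lit 0x3000a)) (lf (nat_lit 0x3000d)))) (nd 1422 (nd 1421 (lf (nat_lit 0x10011)) (lf (nat_lit 0x11))) (nd 1423 (lf (nat_lit 0x0)) (lf (nat_lit 0x40011)))))) (nd 1432 (nd 1428 (nd 1426 (nd 1425 (lf (nat_lit 0x20010)) (lf (nat_lit 0x4000f))) (nd 1427 (lf (nat_lit 0x4000d)) (lf (nat_lit 0x30011)))) (nd 1430 (nd 1429 (lf (nat_lit 0x1000f)) (lf (nat_lit 0x30011))) (nd 1431 (lf (nat_lit 0x0)) (lf (nat_lit 0x20000000000000000)))))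 (nd 1436 (nd 1434 (nd 1433 (lf (nat_lit 0x0)) (lf (nat_lit 0x3000e))) (nd 1435 (lf (nat_lit 0x40012)) (lf (nat_lit 0x6000400000000)))) (nd 1438 (nd 1437 (lf (nat_lit 0x30011)) (lf (nat_lit 0x4000f))) (nd 1439 (lf (nat_lit 0x4000f)) (lf (nat_lit 0x2000c))))))) (nd 1456 (nd 1448 (nd 1444 (nd 1442 (nd 1441 (lf (nat_lit 0x4000e)) (lf (nat_lit 0x0))) (nd 1443 (lf (nat_lit 0x3000e)) (lf (nat_lit 0x2000e)))) (nd 1446 (nd 1445 (lf (nat_lit 0x0)) (lf (nat_lit 0x0))) (nd 1447 (lf (nat_lit 0x0)) (lf (nat_lit 0x2000d))))) (nd 1452 (nd 1450 (nd 1449 (lf (nat_lit 0xc)) (lf (nat_lit 0x0))) (nd 1451 (lf (nat_lit 0x0)) (lf (nat_lit 0x0)))) (nd 1454 (nd 1453 (lf (nat_lit 0x0)) (lf (nat_lit 0x4000c))) (nd 1455 (lf (nat_lit 0x2000f)) (lf (nat_lit 0x2000c)))))) (nd 1464 (nd 1460 (nd 1458 (nd 1457 (lf (nat_lit 0xc)) (lf (nat_lit 0x2000d)))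 (nd 1459 (lf (nat_lit 0x3000d)) (lf (nat_lit 0x0)))) (nd 1462 (nd 1461 (lf (nat_lit 0x0)) (lf (nat_lit 0x0))) (nd 1463 (lf (nat_lit 0x0)) (lf (nat_lit 0xd))))) (nd 1468 (nd 1466 (nd 1465 (lf (nat_lit 0x1000e)) (lf (nat_lit 0x0))) (nd 1467 (lf (nat_lit 0x0)) (lf (nat_lit 0xc)))) (nd 1470 (nd 1469 (lf (nat_lit 0x3000c)) (lf (nat_lit 0x2000e))) (nd 1471 (lf (nat_lit 0x3000d)) (lf (nat_lit 0x4000c)))))))) (nd 1504 (nd 1488 (nd 1480 (nd 1476 (nd 1474 (nd 1473 (lf (nat_lit 0x10011)) (lf (nat_lit 0x10011))) (nd 1475 (lf (nat_lit 0xf)) (lf (nat_lit 0xd)))) (nd 1478 (nd 1477 (lf (nat_lit 0x1000c)) (lf (nat_lit 0x3000e))) (nd 1479 (lf (nat_lit 0x4000e)) (lf (nat_lit 0x7000400000000))))) (nd 1484 (nd 1482 (nd 1481 (lf (nat_lit 0x3000c)) (lf (nat_lit 0x3000e))) (nd 1483 (lf (nat_lit 0x2000c)) (lf (nat_lit 0x2000c)))) (nd 1486 (nd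 1485 (lf (nat_lit 0xc)) (lf (nat_lit 0x2000e))) (nd 1487 (lf (nat_lit 0x2000d)) (lf (nat_lit 0xd)))))) (nd 1496 (nd 1492 (nd 1490 (nd 1489 (lf (nat_lit 0x2000e)) (lf (nat_lit 0x3000e))) (nd 1491 (lf (nat_lit 0x3000c)) (lf (nat_lit 0x1000e)))) (nd 1494 (nd 1493 (lf (nat_lit 0x2000e)) (lf (nat_lit 0x4000e))) (nd 1495 (lf (nat_lit 0x2000c)) (lf (nat_lit 0xb))))) (nd 1500 (nd 1498 (nd 1497 (lf (nat_lit 0x4000c)) (lf (nat_lit 0x10))) (nd 1499 (lf (nat_lit 0x10)) (lf (nat_lit 0x1000f)))) (nd 1502 (nd 1501 (lf (nat_lit 0x11)) (lf (nat_lit 0x10))) (nd 1503 (lf (nat_lit 0x4000c)) (lf (nat_lit 0x2000f))))))) (nd 1520 (nd 1512 (nd 1508 (nd 1506 (nd 1505 (lf (nat_lit 0x1000f)) (lf (nat_lit 0x2000e))) (nd 1507 (lf (nat_lit 0x30010)) (lf (nat_lit 0x30010)))) (nd 1510 (nd 1509 (lf (nat_lit 0x2000e)) (lf (nat_lit 0x1000c))) (nd 1511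 (lf (nat_lit 0x3000e)) (lf (nat_lit 0x3000b))))) (nd 1516 (nd 1514 (nd 1513 (lf (nat_lit 0x1000c)) (lf (nat_lit 0xc))) (nd 1515 (lf (nat_lit 0x3000e)) (lf (nat_lit 0x3000f)))) (nd 1518 (nd 1517 (lf (nat_lit 0x3000c)) (lf (nat_lit 0x4000e))) (nd 1519 (lf (nat_lit 0x2000f)) (lf (nat_lit 0x3000e)))))) (nd 1528 (nd 1524 (nd 1522 (nd 1521 (lf (nat_lit 0x40010)) (lf (nat_lit 0x20010))) (nd 1523 (lf (nat_lit 0x3000f)) (lf (nat_lit 0x30010)))) (nd 1526 (nd 1525 (lf (nat_lit 0x40010)) (lf (nat_lit 0x4000f))) (nd 1527 (lf (nat_lit 0x1000c)) (lf (nat_lit 0xc))))) (nd 1532 (nd 1530 (nd 1529 (lf (nat_lit 0x2000c)) (lf (nat_lit 0x3000e))) (nd 1531 (lf (nat_lit 0x40011)) (lf (nat_lit 0x1000a)))) (nd 1534 (nd 1533 (lf (nat_lit 0xa)) (lf (nat_lit 0x3000f))) (nd 1535 (lf (nat_lit 0x2000f)) (lf (nat_lit 0x2000e)))))))))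
noncomputable def sl_lab_c12 : ℕ → ℕ := (nd 1600 (nd 1568 (nd 1552 (nd 1544 (nd 1540 (nd 1538 (nd 1537 (lf (nat_lit 0xe)) (lf (nat_lit 0x4000f))) (nd 1539 (lf (nat_lit 0x3000f)) (lf (nat_lit 0x3000d)))) (nd 1542 (nd 1541 (lf (nat_lit 0x4000e)) (lf (nat_lit 0x4000f))) (nd 1543 (lf (nat_lit 0x1000d)) (lf (nat_lit 0x30011))))) (nd 1548 (nd 1546 (nd 1545 (lf (nat_lit 0x30010)) (lf (nat_lit 0x4000e))) (nd 1547 (lf (nat_lit 0x4000b)) (lf (nat_lit 0xe)))) (nd 1550 (nd 1549 (lf (nat_lit 0x1000e)) (lf (nat_lit 0xe))) (nd 1551 (lf (nat_lit 0x3000e)) (lf (nat_lit 0x4000f)))))) (nd 1560 (nd 1556 (nd 1554 (nd 1553 (lf (nat_lit 0x30010)) (lf (nat_lit 0xb))) (nd 1555 (lf (nat_lit 0x40011)) (lf (nat_lit 0x4000f)))) (nd 1558 (nd 1557 (lf (nat_lit 0x3000d)) (lf (nat_lit 0x12))) (nd 1559 (lf (nat_lit 0x2000c)) (lf (nat_lit 0x11))))) (nd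 1564 (nd 1562 (nd 1561 (lf (nat_lit 0x4000e)) (lf (nat_lit 0x3000e))) (nd 1563 (lf (nat_lit 0x40011)) (lf (nat_lit 0x2000e)))) (nd 1566 (nd 1565 (lf (nat_lit 0x20010)) (lf (nat_lit 0x3000e))) (nd 1567 (lf (nat_lit 0x30010)) (lf (nat_lit 0x1000c))))))) (nd 1584 (nd 1576 (nd 1572 (nd 1570 (nd 1569 (lf (nat_lit 0x3000c)) (lf (nat_lit 0x3000f))) (nd 1571 (lf (nat_lit 0x2000c)) (lf (nat_lit 0x3000b)))) (nd 1574 (nd 1573 (lf (nat_lit 0x2000d)) (lf (nat_lit 0x0))) (nd 1575 (lf (nat_lit 0xb)) (lf (nat_lit 0x3000b))))) (nd 1580 (nd 1578 (nd 1577 (lf (nat_lit 0x3000d)) (lf (nat_lit 0x2000e))) (nd 1579 (lf (nat_lit 0x40011)) (lf (nat_lit 0x100020000000000000000)))) (nd 1582 (nd 1581 (lf (nat_lit 0x3000d)) (lf (nat_lit 0x4000f))) (nd 1583 (lf (nat_lit 0x10010)) (lf (nat_lit 0x0)))))) (nd 1592 (nd 1588 (nd 1586 (nd 1585 (lf (nat_lit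 0x0)) (lf (nat_lit 0x1000f))) (nd 1587 (lf (nat_lit 0x20011)) (lf (nat_lit 0x10011)))) (nd 1590 (nd 1589 (lf (nat_lit 0x0)) (lf (nat_lit 0x0))) (nd 1591 (lf (nat_lit 0x11)) (lf (nat_lit 0x10010))))) (nd 1596 (nd 1594 (nd 1593 (lf (nat_lit 0x0)) (lf (nat_lit 0x1000f))) (nd 1595 (lf (nat_lit 0x0)) (lf (nat_lit 0x0)))) (nd 1598 (nd 1597 (lf (nat_lit 0x10010)) (lf (nat_lit 0x0))) (nd 1599 (lf (nat_lit 0x0)) (lf (nat_lit 0x20012)))))))) (nd 1632 (nd 1616 (nd 1608 (nd 1604 (nd 1602 (nd 1601 (lf (nat_lit 0x3000f)) (lf (nat_lit 0x10010))) (nd 1603 (lf (nat_lit 0x4000e)) (lf (nat_lit 0x3000e)))) (nd 1606 (nd 1605 (lf (nat_lit 0x2000e)) (lf (nat_lit 0x0))) (nd 1607 (lf (nat_lit 0x2000c)) (lf (nat_lit 0x4000f))))) (nd 1612 (nd 1610 (nd 1609 (lf (nat_lit 0x0)) (lf (nat_lit 0x6000500000000))) (nd 1611 (lf (nat_lit 0x30010)) (lf (nat_lit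 0x0)))) (nd 1614 (nd 1613 (lf (nat_lit 0x2000f)) (lf (nat_lit 0x20010))) (nd 1615 (lf (nat_lit 0x20013)) (lf (nat_lit 0x0)))))) (nd 1624 (nd 1620 (nd 1618 (nd 1617 (lf (nat_lit 0x0)) (lf (nat_lit 0x0))) (nd 1619 (lf (nat_lit 0x40011)) (lf (nat_lit 0x0)))) (nd 1622 (nd 1621 (lf (nat_lit 0x2000f)) (lf (nat_lit 0x0))) (nd 1623 (lf (nat_lit 0x0)) (lf (nat_lit 0x0))))) (nd 1628 (nd 1626 (nd 1625 (lf (nat_lit 0x30010)) (lf (nat_lit 0x0))) (nd 1627 (lf (nat_lit 0x0)) (lf (nat_lit 0x0)))) (nd 1630 (nd 1629 (lf (nat_lit 0x10010)) (lf (nat_lit 0x3000f))) (nd 1631 (lf (nat_lit 0x0)) (lf (nat_lit 0x40010))))))) (nd 1648 (nd 1640 (nd 1636 (nd 1634 (nd 1633 (lf (nat_lit 0x3000f)) (lf (nat_lit 0x40010))) (nd 1635 (lf (nat_lit 0x11)) (lf (nat_lit 0x4000f)))) (nd 1638 (nd 1637 (lf (nat_lit 0x1000c)) (lf (nat_lit 0x30010))) (nd 1639 (lf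 (nat_lit 0x3000f)) (lf (nat_lit 0x0))))) (nd 1644 (nd 1642 (nd 1641 (lf (nat_lit 0x20012)) (lf (nat_lit 0x3000f))) (nd 1643 (lf (nat_lit 0x1000f)) (lf (nat_lit 0x3000f)))) (nd 1646 (nd 1645 (lf (nat_lit 0x2000f)) (lf (nat_lit 0xf))) (nd 1647 (lf (nat_lit 0xd)) (lf (nat_lit 0xf)))))) (nd 1656 (nd 1652 (nd 1650 (nd 1649 (lf (nat_lit 0x10)) (lf (nat_lit 0xf))) (nd 1651 (lf (nat_lit 0x40011)) (lf (nat_lit 0x30011)))) (nd 1654 (nd 1653 (lf (nat_lit 0x40010)) (lf (nat_lit 0x2000d))) (nd 1655 (lf (nat_lit 0x4000f)) (lf (nat_lit 0x0))))) (nd 1660 (nd 1658 (nd 1657 (lf (nat_lit 0x30011)) (lf (nat_lit 0x30011))) (nd 1659 (lf (nat_lit 0xf)) (lf (nat_lit 0x12)))) (nd 1662 (nd 1661 (lf (nat_lit 0x10012)) (lf (nat_lit 0x30010))) (nd 1663 (lf (nat_lit 0x20012)) (lf (nat_lit 0x3000d)))))))))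
noncomputable def sl_lab_c13 : ℕ → ℕ := (nd 1723 (nd 1693 (nd 1678 (nd 1671 (nd 1667 (nd 1665 (lf (nat_lit 0x2000e)) (nd 1666 (lf (nat_lit 0x4000e)) (lf (nat_lit 0x20010)))) (nd 1669 (nd 1668 (lf (nat_lit 0x1000e)) (lf (nat_lit 0x10010))) (nd 1670 (lf (nat_lit 0x1000d)) (lf (nat_lit 0x3000e))))) (nd 1674 (nd 1672 (lf (nat_lit 0x4000c)) (nd 1673 (lf (nat_lit 0x4000d)) (lf (nat_lit 0x20010)))) (nd 1676 (nd 1675 (lf (nat_lit 0x2000e)) (lf (nat_lit 0x20011))) (nd 1677 (lf (nat_lit 0xf)) (lf (nat_lit 0x3000f)))))) (nd 1685 (nd 1681 (nd 1679 (lf (nat_lit 0x3000f)) (nd 1680 (lf (nat_lit 0x2000f)) (lf (nat_lit 0x1000b)))) (nd 1683 (nd 1682 (lf (nat_lit 0x3000b)) (lf (nat_lit 0x2000b))) (nd 1684 (lf (nat_lit 0x20012)) (lf (nat_lit 0x20011))))) (nd 1689 (nd 1687 (nd 1686 (lf (nat_lit 0x3000f)) (lf (nat_lit 0x30011))) (nd 1688 (lf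 (nat_lit 0x1000f)) (lf (nat_lit 0x0)))) (nd 1691 (nd 1690 (lf (nat_lit 0x2000f)) (lf (nat_lit 0x30012))) (nd 1692 (lf (nat_lit 0x30010)) (lf (nat_lit 0xb))))))) (nd 1708 (nd 1700 (nd 1696 (nd 1694 (lf (nat_lit 0x4000e)) (nd 1695 (lf (nat_lit 0x3000f)) (lf (nat_lit 0x2000f)))) (nd 1698 (nd 1697 (lf (nat_lit 0x0)) (lf (nat_lit 0x0))) (nd 1699 (lf (nat_lit 0x0)) (lf (nat_lit 0x0))))) (nd 1704 (nd 1702 (nd 1701 (lf (nat_lit 0x0)) (lf (nat_lit 0x0))) (nd 1703 (lf (nat_lit 0x0)) (lf (nat_lit 0x1000d)))) (nd 1706 (nd 1705 (lf (nat_lit 0x3000c)) (lf (nat_lit 0x4000d))) (nd 1707 (lf (nat_lit 0x2000e)) (lf (nat_lit 0x2000f)))))) (nd 1715 (nd 1711 (nd 1709 (lf (nat_lit 0x40011)) (nd 1710 (lf (nat_lit 0x3000f)) (lf (nat_lit 0x1000b)))) (nd 1713 (nd 1712 (lf (nat_lit 0xd)) (lf (nat_lit 0x3000e))) (nd 1714 (lf (nat_lit 0x3000e)) (lf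 (nat_lit 0x2000d))))) (nd 1719 (nd 1717 (nd 1716 (lf (nat_lit 0x20011)) (lf (nat_lit 0x20011))) (nd 1718 (lf (nat_lit 0x2000f)) (lf (nat_lit 0x3000d)))) (nd 1721 (nd 1720 (lf (nat_lit 0x2000d)) (lf (nat_lit 0x3000d))) (nd 1722 (lf (nat_lit 0x4000f)) (lf (nat_lit 0x30011)))))))) (nd 1752 (nd 1737 (nd 1730 (nd 1726 (nd 1724 (lf (nat_lit 0x40010)) (nd 1725 (lf (nat_lit 0x40010)) (lf (nat_lit 0x4000e)))) (nd 1728 (nd 1727 (lf (nat_lit 0x2000e)) (lf (nat_lit 0x3000e))) (nd 1729 (lf (nat_lit 0x4000e)) (lf (nat_lit 0xe))))) (nd 1733 (nd 1731 (lf (nat_lit 0x30010)) (nd 1732 (lf (nat_lit 0x1000e)) (lf (nat_lit 0x1000e)))) (nd 1735 (nd 1734 (lf (nat_lit 0x10)) (lf (nat_lit 0x1000f))) (nd 1736 (lf (nat_lit 0x2000e)) (lf (nat_lit 0x10012)))))) (nd 1744 (nd 1740 (nd 1738 (lf (nat_lit 0x40011)) (nd 1739 (lf (nat_lit 0x3000f)) (lf (nat_lit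 0x3000e)))) (nd 1742 (nd 1741 (lf (nat_lit 0x3000d)) (lf (nat_lit 0x2000d))) (nd 1743 (lf (nat_lit 0x3000c)) (lf (nat_lit 0x2000d))))) (nd 1748 (nd 1746 (nd 1745 (lf (nat_lit 0x3000e)) (lf (nat_lit 0x40012))) (nd 1747 (lf (nat_lit 0x0)) (lf (nat_lit 0x0)))) (nd 1750 (nd 1749 (lf (nat_lit 0x10012)) (lf (nat_lit 0x20011))) (nd 1751 (lf (nat_lit 0x0)) (lf (nat_lit 0x3000f))))))) (nd 1767 (nd 1759 (nd 1755 (nd 1753 (lf (nat_lit 0x2000f)) (nd 1754 (lf (nat_lit 0x0)) (lf (nat_lit 0x0)))) (nd 1757 (nd 1756 (lf (nat_lit 0x10011)) (lf (nat_lit 0x0))) (nd 1758 (lf (nat_lit 0x0)) (lf (nat_lit 0x0))))) (nd 1763 (nd 1761 (nd 1760 (lf (nat_lit 0x0)) (lf (nat_lit 0x0))) (nd 1762 (lf (nat_lit 0x0)) (lf (nat_lit 0x0)))) (nd 1765 (nd 1764 (lf (nat_lit 0x10010)) (lf (nat_lit 0xf))) (nd 1766 (lf (nat_lit 0x1000e)) (lf (nat_lit 0x1000f))))))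 (nd 1774 (nd 1770 (nd 1768 (lf (nat_lit 0x1000e)) (nd 1769 (lf (nat_lit 0x10010)) (lf (nat_lit 0x30010)))) (nd 1772 (nd 1771 (lf (nat_lit 0x30010)) (lf (nat_lit 0x10010))) (nd 1773 (lf (nat_lit 0x30011)) (lf (nat_lit 0x0))))) (nd 1778 (nd 1776 (nd 1775 (lf (nat_lit 0x30011)) (lf (nat_lit 0x0))) (nd 1777 (lf (nat_lit 0x0)) (lf (nat_lit 0x0)))) (nd 1780 (nd 1779 (lf (nat_lit 0x1000f)) (lf (nat_lit 0x10010))) (nd 1781 (lf (nat_lit 0x0)) (lf (nat_lit 0x0)))))))))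
noncomputable def sl_lab : ℕ → ℕ := (nd 896 (nd 384 (nd 128 sl_lab_c0 (nd 256 sl_lab_c1 sl_lab_c2)) (nd 640 (nd 512 sl_lab_c3 sl_lab_c4) (nd 768 sl_lab_c5 sl_lab_c6))) (nd 1280 (nd 1024 sl_lab_c7 (nd 1152 sl_lab_c8 sl_lab_c9)) (nd 1536 (nd 1408 sl_lab_c10 sl_lab_c11) (nd 1664 sl_lab_c12 sl_lab_c13))))
def sl_ws3 : List (List Suz.Gen) := [[.a], [.b], [.c], [.d], [.e]]
def sl_ws4 : List (List Suz.Gen) := [[.a], [.c], [.e], [.b, .a, .b, .a, .c, .b], [.b, .c, .a, .b, .a, .b], [.d, .c, .d, .e, .d, .c, .d], [.d, .c, .b, .a, .b, .a, .d, .c, .b, .d, .c, .d], [.d, .c, .d, .b, .c, .d, .a, .b, .a, .b, .c, .d]]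
def sl_ws5 : List (List Suz.Gen) := [[.a, .b, .a, .b, .c, .b, .a, .d, .c, .b, .a, .b, .c, .d, .c, .b, .d, .c, .d], [.d, .c, .d, .b, .c, .d, .c, .b, .a, .b, .c, .d, .a, .b, .c, .b, .a, .b, .a]]
def sl_us : List (List Suz.Gen) := [[.b, .c, .d, .e, .f, .g], [.g, .f, .e, .d, .c, .b, .a], [.c, .a, .b, .c, .d, .e, .g, .c, .f, .d, .c, .d, .b, .f], [.f, .b, .d, .c, .d, .f, .c, .g, .e, .d, .c, .b, .a, .c, .e]]
def sl_p11 : List (List Suz.Gen) := [[.b, .c, .d, .e, .f, .g, .b, .c, .d, .e, .f, .g, .b, .c, .d, .e, .f, .g, .b, .c, .d, .e, .f, .g, .b, .c, .d, .e, .f, .g, .b, .c, .d, .e, .f, .g, .b, .c, .d, .e, .f, .g, .b, .c, .d, .e, .f, .g, .b, .c, .d, .e, .f, .g, .b, .c, .d, .e, .f, .g, .b, .c, .d, .e, .f, .g], [.g, .f, .e, .d, .c, .b, .a, .g, .f, .e, .d, .c, .b, .a, .g, .f, .e, .d, .c, .b, .a, .g, .f, .e, .d, .c, .b, .a, .g, .f,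 .e, .d, .c, .b, .a, .g, .f, .e, .d, .c, .b, .a, .g, .f, .e, .d, .c, .b, .a, .g, .f, .e, .d, .c, .b, .a, .g, .f, .e, .d, .c, .b, .a, .g, .f, .e, .d, .c, .b, .a, .g, .f, .e, .d, .c, .b, .a], [.c, .a, .b, .c, .d, .e, .g, .c, .f, .d, .c, .d, .b, .f, .c, .a, .b, .c, .d, .e, .g, .c, .f, .d, .c, .d, .b, .f, .c, .a, .b, .c, .d, .e, .g, .c, .f, .d, .c, .d, .b, .f, .c, .a, .b, .c, .d, .e, .g, .c, .f, .d, .c, .d, .b, .f, .c, .a, .b, .c, .d, .e, .g, .c, .f, .d, .c, .d, .b, .f, .c, .a, .b, .c, .d, .e, .g, .c, .f, .d, .c, .d, .b, .f, .c, .a, .b, .c, .d, .e, .g, .c, .f, .d, .c, .d, .b, .f, .c, .a, .b, .c, .d, .e, .g, .c, .f, .d, .c, .d, .b, .f, .c, .a, .b, .c, .d, .e, .g, .c, .f, .d, .c, .d, .b, .f, .c, .a, .b, .c, .d, .e, .g, .c, .f, .d, .c, .d, .b, .f, .c, .a, .b, .c, .d, .e, .g, .c, .f, .d, .c, .d, .b, .f], [.f, .b, .d, .c, .d, .f,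 .c, .g, .e, .d, .c, .b, .a, .c, .e, .f, .b, .d, .c, .d, .f, .c, .g, .e, .d, .c, .b, .a, .c, .e, .f, .b, .d, .c, .d, .f, .c, .g, .e, .d, .c, .b, .a, .c, .e, .f, .b, .d, .c, .d, .f, .c, .g, .e, .d, .c, .b, .a, .c, .e, .f, .b, .d, .c, .d, .f, .c, .g, .e, .d, .c, .b, .a, .c, .e, .f, .b, .d, .c, .d, .f, .c, .g, .e, .d, .c, .b, .a, .c, .e, .f, .b, .d, .c, .d, .f, .c, .g, .e, .d, .c, .b, .a, .c, .e, .f, .b, .d, .c, .d, .f, .c, .g, .e, .d, .c, .b, .a, .c, .e, .f, .b, .d, .c, .d, .f, .c, .g, .e, .d, .c, .b, .a, .c, .e, .f, .b, .d, .c, .d, .f, .c, .g, .e, .d, .c, .b, .a, .c, .e, .f, .b, .d, .c, .d, .f, .c, .g, .e, .d, .c, .b, .a, .c, .e]]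

end Cfsg.Agent.H10.SuzT
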